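import Groth.Agent.Coherent.K55.Aff3

/-!
# Core statements over an affine open
-/

set_option autoImplicit false

universe u

open CategoryTheory CategoryTheory.Limits AlgebraicGeometry Opposite TopologicalSpace TensorProduct

namespace K55.Aff

open Groth.Agent Groth.Agent.Ega3B K55.PackV K55.KerAlg Function

section Points

variable {S : Scheme.{u}} {V : S.Opens} (hV : IsAffineOpen V)

/-- Neighbourhoods of the prime of `y` are neighbourhoods of `y`. -/
theorem exists_basicOpen_of_eventually (y : V) {P : PrimeSpectrum Γ(S, V) → Prop}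
    (h : ∀ᶠ x in nhds (hV.primeIdealOf y), P x) :
    ∃ r : Γ(S, V), y.1 ∈ S.basicOpen r ∧ (∀ x ∈ PrimeSpectrum.basicOpen r, P x) ∧
      ∀ (t : S) (ht : t ∈ V), t ∈ S.basicOpen r → P (hV.primeIdealOf ⟨t, ht⟩) := by
  obtain ⟨U, hU, hUo, hyU⟩ := eventually_nhds_iff.1 h
  obtain ⟨_, ⟨r, rfl⟩, hr, hrU⟩ := PrimeSpectrum.isTopologicalBasis_basic_opens.exists_subset_of_mem_open
    hyU hUo
  refine ⟨r, ?_, fun x hx => hU x (hrU hx), fun t ht htr => hU _ (hrU ?_)⟩
  · rw [Ega1.LocNoethNhd.mem_basicOpen_iff_notMem_primeIdealOf hV y r]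
    exact hr
  · exact (Ega1.LocNoethNhd.mem_basicOpen_iff_notMem_primeIdealOf hV ⟨t, ht⟩ r).1 htr

theorem isUnit_appLE {S' : Scheme.{u}} (g : S' ⟶ S) (r : Γ(S, V)) (W : S'.Opens)
    (hWV : W ≤ g ⁻¹ᵁ V) (hW : W ≤ g ⁻¹ᵁ (S.basicOpen r)) : IsUnit ((g.appLE V W hWV).hom r) := by
  have h1 : g.appLE V W hWV = S.presheaf.map (homOfLE (S.basicOpen_le r)).op ≫
      g.appLE (S.basicOpen r) W hW := by
    rw [Scheme.Hom.map_appLE]
  have h2 : IsUnit (S.presheaf.map (homOfLE (S.basicOpen_le r)).op r) :=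
    RingedSpace.isUnit_res_basicOpen _ r
  rw [h1]
  exact h2.map (g.appLE (S.basicOpen r) W hW).hom

end Points

section Core

variable {X S : Scheme.{u}} {f : X ⟶ S} {F : X.Modules} {V : S.Opens} {hV : IsAffineOpen V}
  {K : CxData Γ(S, V)} {p : ℕ} {θ₀ : HV f F V p ≃+ K.H p}

/-- Base change over `D(r)` if `O (p + 1)` is free there. -/
theorem isBCOn_of_freeLocus (hK : ComputesV f F hV K p θ₀) (r : Γ(S, V))
    (hr : ∀ x ∈ PrimeSpectrum.basicOpen r, x ∈ Module.freeLocus Γ(S, V) (K.O (p + 1)))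
    {S' X' : Scheme.{u}} (g' : X' ⟶ X) (f' : X' ⟶ S') (g : S' ⟶ S) (H : IsPullback g' f' f g)
    (W : S'.Opens) (hW : IsAffineOpen W) (hWV : W ≤ g ⁻¹ᵁ V) (hWr : W ≤ g ⁻¹ᵁ (S.basicOpen r))
    (hle : f' ⁻¹ᵁ W ≤ g' ⁻¹ᵁ (f ⁻¹ᵁ V)) :
    IsBCOn f F g' f' g V W hWV hle p := by
  let _ := (g.appLE V W hWV).hom.toAlgebra
  refine isBCOn_of rfl hK.1 (hK.2.1 g' f' g H W hW hWV hle) ?_
  refine bijective_can_of_isBaseChange (K.u p) _
    (isBaseChange_of_away (K.exact p) (K.surj p) r hr Γ(S', W) ?_)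
  exact isUnit_appLE g r W hWV hWr

theorem isFinLocFree_core [QuasiCompact f] [QuasiSeparated f] [HasInjectiveResolutions X.Modules]
    (hF : Coh.IsQCoh F) (hK : ComputesV f F hV K p θ₀) (y : V)
    (r : Γ(S, V)) (hy : y.1 ∈ S.basicOpen r)
    (h1 : ∀ x ∈ PrimeSpectrum.basicOpen r, x ∈ Module.freeLocus Γ(S, V) (K.O (p + 1)))
    (h2 : ∀ x ∈ PrimeSpectrum.basicOpen r, x ∈ Module.freeLocus Γ(S, V) (K.O p)) :
    ∃ U : S.Opens, y.1 ∈ U ∧ U ≤ S.basicOpen r ∧
      FlatMod.IsFinLocFree (((Coh.Rpush f p).obj F).restrict U.ι) := by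
  let M := (Coh.Rpush f p).obj F
  have hM : Coh.IsQCoh M := CohqA.RelCoh.isQCoh_Rpush f F hF p
  have hMq : M.IsQuasicoherent := hM
  let V' := S.basicOpen r
  have hV' : IsAffineOpen V' := hV.basicOpen r
  have hle : V' ≤ V := S.basicOpen_le r
  let _ := (S.presheaf.map (homOfLE hle).op).hom.toAlgebra
  obtain ⟨e⟩ := exists_secEquiv hF hV K p θ₀ hK.1
  obtain ⟨e'⟩ := nonempty_tensor_equiv M hM hV hV' hle (K.H p) e
  have hu : IsUnit (algebraMap Γ(S, V) Γ(S, V') r) := RingedSpace.isUnit_res_basicOpen _ r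
  have hloc : IsLocalization.Away r Γ(S, V') := hV.isLocalization_basicOpen r
  have hfl : Module.Flat Γ(S, V) Γ(S, V') := IsLocalization.flat _ (Submonoid.powers r)
  obtain ⟨h3, h4⟩ := finite_projective_tensor_ker (K.exact p) (K.surj p) Γ(S, V')
    (projective_tensor_of_away r h1 _ hu) (projective_tensor_of_away r h2 _ hu)
  have h5 : Module.Finite Γ(S, V') Γ(M, V') := Module.Finite.equiv e'
  have h6 : Module.Projective Γ(S, V') Γ(M, V') := Module.Projective.of_equiv e'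
  have h7 : Module.FinitePresentation Γ(S, V') Γ(M, V') := Module.finitePresentation_of_projective _ _
  obtain ⟨U, hyU, hUV, e''⟩ := LocFree.exists_restrict_iso_freeMod M hV' ⟨y.1, hy⟩
  exact ⟨U, hyU, hUV, isFinLocFree_of_iso_freeMod e''⟩

/-- If `R^p f_* F` is finite locally free near `y`, then `H^p` is free at `y`. -/
theorem mem_freeLocus_of_isFinLocFree [QuasiCompact f] [QuasiSeparated f]
    [HasInjectiveResolutions X.Modules]
    (hF : Coh.IsQCoh F) (hK : ComputesV f F hV K p θ₀) (y : V) (U : S.Opens) (hy : y.1 ∈ U)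
    (h : FlatMod.IsFinLocFree (((Coh.Rpush f p).obj F).restrict U.ι)) :
    hV.primeIdealOf y ∈ Module.freeLocus Γ(S, V) (K.H p) := by
  let M := (Coh.Rpush f p).obj F
  have hM : Coh.IsQCoh M := CohqA.RelCoh.isQCoh_Rpush f F hF p
  have hMq : M.IsQuasicoherent := hM
  obtain ⟨U', n, hyU', -, e⟩ := exists_open_free h hy
  obtain ⟨r, hr, hyr⟩ := hV.exists_basicOpen_le ⟨y.1, hyU'⟩ y.2
  obtain ⟨e'⟩ := LocFree.nonempty_equiv_of_restrict_iso M hV r U' hr n e
  have h1 : Module.Free (Localization.Away r) (LocalizedModule.Away r Γ(M, V)) :=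
    Module.Free.of_equiv e'.symm
  have h2 : Module.Finite (Localization.Away r) (LocalizedModule.Away r Γ(M, V)) :=
    Module.Finite.equiv e'.symm
  have h3 := subset_freeLocus_of_away (M := Γ(M, V)) r h2 inferInstance
  obtain ⟨e''⟩ := exists_secEquiv hF hV K p θ₀ hK.1
  rw [← Module.freeLocus_congr e'']
  exact h3 ((Ega1.LocNoethNhd.mem_basicOpen_iff_notMem_primeIdealOf hV y r).1 hyr)

end Core

end K55.Aff
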