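import Groth.Agent.Ega3A.FiberRank
import Groth.Agent.Ega3A.LocalKer
import Mathlib.RingTheory.Flat.Equalizer
import Mathlib.RingTheory.Flat.Localization
import Mathlib.RingTheory.LocalRing.Module
import Mathlib.RingTheory.TensorProduct.IsBaseChangeHom
import Mathlib.LinearAlgebra.FiniteDimensional.Lemmas

/-!
# Linear algebra of `M ↦ ker (u ⊗ M)` for `O --u--> Q --π--> C → 0`, `Q` finite projective

* `kres u B : ker u → ker (u_B)`.
* `isBaseChange_kres_of_flat_alg`: base change for `B` flat.
* `isBaseChange_kres_of_flat`: base change for all `B` if `C` is flat.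
* `mem_freeLocus_of_span`: if `ker u → ker (u_κ(s))` generates then `C` is free at `s`.
* `finrank_ker_add`, `projective_of_isLocallyConstant`, `projective_ker_iff`.
-/

set_option autoImplicit false

universe u

namespace K55.KerAlg

open TensorProduct LinearMap Function Groth.Agent.Ega3A.FiberRank

variable {A : Type u} [CommRing A] {O Q C : Type u} [AddCommGroup O] [AddCommGroup Q]
  [AddCommGroup C] [Module A O] [Module A Q] [Module A C]

/-- `ker u → ker (u_B)`, `z ↦ 1 ⊗ z`. -/
noncomputable def kres (u : O →ₗ[A] Q) (B : Type u) [CommRing B] [Algebra A B] :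
    LinearMap.ker u →ₗ[A] LinearMap.ker (u.baseChange B) where
  toFun z := ⟨1 ⊗ₜ[A] z.1, by rw [LinearMap.mem_ker, baseChange_tmul, LinearMap.mem_ker.1 z.2, tmul_zero]⟩
  map_add' x y := Subtype.ext (tmul_add _ _ _)
  map_smul' a x := Subtype.ext (by
    change (1 : B) ⊗ₜ[A] (a • x.1) = a • ((1 : B) ⊗ₜ[A] x.1)
    rw [tmul_smul])

variable (u : O →ₗ[A] Q) (B : Type u) [CommRing B] [Algebra A B]

theorem kres_coe (z : LinearMap.ker u) : (kres u B z : B ⊗[A] O) = 1 ⊗ₜ[A] (z : O) := rfl

/-- The canonical map `B ⊗ ker u → ker (u_B)`. -/
noncomputable def can : B ⊗[A] LinearMap.ker u →ₗ[B] LinearMap.ker (u.baseChange B) :=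
  LinearMap.codRestrict _ ((LinearMap.ker u).subtype.baseChange B) (fun x => by
    rw [LinearMap.mem_ker]
    induction x with
    | zero => simp
    | add x y hx hy => rw [map_add, map_add, hx, hy, add_zero]
    | tmul b z =>
      rw [baseChange_tmul, baseChange_tmul, Submodule.subtype_apply, LinearMap.mem_ker.1 z.2, tmul_zero])

theorem can_coe (x : B ⊗[A] LinearMap.ker u) :
    (can u B x : B ⊗[A] O) = (LinearMap.ker u).subtype.lTensor B x := rfl

theorem can_one (z : LinearMap.ker u) : can u B (1 ⊗ₜ z) = kres u B z :=
  Subtype.ext rfl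

theorem isBaseChange_of_bijective (h : Bijective (can u B)) : IsBaseChange B (kres u B) :=
  IsBaseChange.of_equiv (LinearEquiv.ofBijective (can u B) h) fun z => can_one u B z

theorem can_injective_iff : Injective (can u B) ↔ Injective ((LinearMap.ker u).subtype.lTensor B) := by
  constructor
  · intro h x y hxy
    exact h (Subtype.ext hxy)
  · intro h x y hxy
    exact h (congrArg Subtype.val hxy)

theorem can_surjective_iff : Surjective (can u B) ↔
    LinearMap.ker (u.lTensor B) ≤ LinearMap.range ((LinearMap.ker u).subtype.lTensor B) := by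
  constructor
  · intro h x hx
    obtain ⟨y, hy⟩ := h ⟨x, hx⟩
    exact ⟨y, congrArg Subtype.val hy⟩
  · rintro h ⟨x, hx⟩
    obtain ⟨y, hy⟩ := h hx
    exact ⟨y, Subtype.ext hy⟩

theorem can_surjective_iff_span : Surjective (can u B) ↔
    Submodule.span B (Set.range (kres u B)) = ⊤ := by
  have key : LinearMap.range (can u B) = Submodule.span B (Set.range (kres u B)) := by
    apply le_antisymm
    · rintro _ ⟨x, rfl⟩
      induction x with
      | zero => rw [map_zero]; exact zero_mem _
      | add x y hx hy => rw [map_add]; exact add_mem hx hy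
      | tmul b z =>
        have : b ⊗ₜ[A] z = b • ((1 : B) ⊗ₜ[A] z) := by rw [smul_tmul', smul_eq_mul, mul_one]
        rw [this, map_smul, can_one]
        exact Submodule.smul_mem _ _ (Submodule.subset_span ⟨z, rfl⟩)
    · rw [Submodule.span_le]
      rintro _ ⟨z, rfl⟩
      exact ⟨1 ⊗ₜ z, can_one u B z⟩
  rw [← LinearMap.range_eq_top, key]

theorem can_bijective_of_flat_alg [Module.Flat A B] : Bijective (can u B) := by
  have h := (LinearMap.tensorKerEquiv B B u).bijective
  have e : ⇑(LinearMap.tensorKerEquiv B B u) = ⇑(can u B) := by
    funext x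
    apply Subtype.ext
    rw [LinearMap.tensorKerEquiv_apply, LinearMap.tensorKer_coe]
    rfl
  rw [e] at h
  exact h

theorem isBaseChange_kres_of_flat_alg [Module.Flat A B] : IsBaseChange B (kres u B) :=
  isBaseChange_of_bijective u B (can_bijective_of_flat_alg u B)

section Exact

variable {u} {π : Q →ₗ[A] C} (hex : Exact u π) (hπ : Surjective π)

omit hπ in
include hex in
theorem subtype_range_exact : Exact (LinearMap.range u).subtype π := by
  intro y
  rw [hex y]
  constructor
  · rintro ⟨x, rfl⟩
    exact ⟨⟨u x, x, rfl⟩, rfl⟩
  · rintro ⟨⟨_, x, rfl⟩, rfl⟩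
    exact ⟨x, rfl⟩

include hex hπ in
theorem flat_range [Module.Flat A Q] [Module.Flat A C] : Module.Flat A (LinearMap.range u) := by
  rw [Module.Flat.iff_lTensor_preserves_injective_linearMap]
  intro N N' _ _ _ _ L hL
  have h1 := LinearMap.lTensor_injective_of_exact_of_flat π hπ (LinearMap.range u).subtype
    (LinearMap.range u).subtype_injective (subtype_range_exact hex)
  have h2 : Injective (L.lTensor Q) := Module.Flat.lTensor_preserves_injective_linearMap L hL
  have h3 : Injective ((LinearMap.range u).subtype.rTensor N) :=
    (LinearMap.lTensor_inj_iff_rTensor_inj _ _).1 (h1 N)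
  have h4 : (L.lTensor Q) ∘ₗ ((LinearMap.range u).subtype.rTensor N) =
      ((LinearMap.range u).subtype.rTensor N') ∘ₗ (L.lTensor (LinearMap.range u)) := by
    rw [LinearMap.lTensor_comp_rTensor, LinearMap.rTensor_comp_lTensor]
  have h5 : Injective ⇑((L.lTensor Q) ∘ₗ ((LinearMap.range u).subtype.rTensor N)) := h2.comp h3
  rw [h4] at h5
  exact Injective.of_comp h5

include hex hπ in
theorem can_bijective_of_flat [Module.Flat A Q] [Module.Flat A C] : Bijective (can u B) := by
  have hfl := flat_range hex hπ
  have hr : Surjective u.rangeRestrict := LinearMap.surjective_rangeRestrict u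
  have hk : Exact (LinearMap.ker u).subtype u.rangeRestrict := by
    intro x
    constructor
    · intro hx
      exact ⟨⟨x, congrArg Subtype.val hx⟩, rfl⟩
    · rintro ⟨z, rfl⟩
      exact Subtype.ext z.2
  constructor
  · rw [can_injective_iff]
    exact LinearMap.lTensor_injective_of_exact_of_flat u.rangeRestrict hr _
      (LinearMap.ker u).subtype_injective hk B
  · rw [can_surjective_iff]
    intro x hx
    have h1 := LinearMap.lTensor_injective_of_exact_of_flat π hπ (LinearMap.range u).subtype
      (LinearMap.range u).subtype_injective (subtype_range_exact hex) B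
    have h2 : (u.rangeRestrict.lTensor B) x = 0 := by
      apply h1
      rw [map_zero, ← LinearMap.comp_apply, ← LinearMap.lTensor_comp]
      exact hx
    exact (lTensor_exact B hk hr x).1 h2

include hex hπ in
theorem isBaseChange_kres_of_flat [Module.Flat A Q] [Module.Flat A C] : IsBaseChange B (kres u B) :=
  isBaseChange_of_bijective u B (can_bijective_of_flat B hex hπ)

end Exact

section Tower

variable (A' : Type u) [CommRing A'] [Algebra A A'] [Algebra A' B] [IsScalarTower A A' B]

/-- `B ⊗[A'] (A' ⊗[A] O) ≃ B ⊗[A] O`. -/
noncomputable abbrev canc (M : Type u) [AddCommGroup M] [Module A M] :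
    B ⊗[A'] (A' ⊗[A] M) ≃ₗ[B] B ⊗[A] M :=
  AlgebraTensorModule.cancelBaseChange A A' B B M

theorem canc_nat (x : B ⊗[A'] (A' ⊗[A] O)) :
    u.baseChange B (canc B A' O x) = canc B A' Q ((u.baseChange A').baseChange B x) := by
  induction x with
  | zero => simp
  | add x y hx hy => rw [map_add, map_add, map_add, map_add, hx, hy]
  | tmul b z =>
    induction z with
    | zero => simp
    | add x y hx hy => rw [tmul_add, map_add, map_add, map_add, map_add, hx, hy]
    | tmul a n => simp

/-- `ker ((u_{A'})_B) ≃ ker (u_B)`. -/
noncomputable def kerTower :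
    LinearMap.ker ((u.baseChange A').baseChange B) ≃ₗ[B] LinearMap.ker (u.baseChange B) :=
  (canc B A' O).ofSubmodules _ _ (by
    ext x
    constructor
    · rintro ⟨y, hy, rfl⟩
      rw [LinearMap.mem_ker]
      refine (canc_nat u B A' y).trans ?_
      rw [LinearMap.mem_ker.1 hy, map_zero]
    · intro hx
      refine ⟨(canc B A' O).symm x, ?_, LinearEquiv.apply_symm_apply _ _⟩
      apply (canc B A' Q).injective
      rw [map_zero, ← canc_nat, LinearEquiv.apply_symm_apply]
      exact hx)

theorem kerTower_kres (z : LinearMap.ker u) :
    kerTower u B A' (kres (u.baseChange A') B (kres u A' z)) = kres u B z := by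
  apply Subtype.ext
  change canc B A' O ((1 : B) ⊗ₜ ((1 : A') ⊗ₜ (z : O))) = (1 : B) ⊗ₜ (z : O)
  simp

theorem isBaseChange_kres_tower [Module.Flat A A']
    (h : IsBaseChange B (kres (u.baseChange A') B)) : IsBaseChange B (kres u B) := by
  have h1 := (isBaseChange_kres_of_flat_alg u A').comp h
  refine IsBaseChange.of_equiv (h1.equiv.trans (kerTower u B A')) fun z => ?_
  rw [LinearEquiv.trans_apply, IsBaseChange.equiv_tmul, one_smul]
  exact kerTower_kres u B A' z

variable {u} {π : Q →ₗ[A] C} (hex : Exact u π) (hπ : Surjective π)

include hex hπ in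
/-- Base change for `A → B` factoring through a flat `A → A'` with `A' ⊗ C` flat. -/
theorem isBaseChange_kres_of_tower [Module.Flat A A'] [Module.Flat A Q]
    (hC : Module.Flat A' (A' ⊗[A] C)) : IsBaseChange B (kres u B) := by
  refine isBaseChange_kres_tower u B A' ?_
  have hπ' : Surjective (π.baseChange A') := by
    rw [LinearMap.baseChange_eq_ltensor]
    exact LinearMap.lTensor_surjective A' hπ
  have hex' : Exact (u.baseChange A') (π.baseChange A') := by
    rw [LinearMap.baseChange_eq_ltensor, LinearMap.baseChange_eq_ltensor]
    exact lTensor_exact A' hex hπ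
  exact isBaseChange_kres_of_flat B hex' hπ'

end Tower

theorem bijective_can_of_isBaseChange (h : IsBaseChange B (kres u B)) : Bijective (can u B) := by
  have : can u B = h.equiv.toLinearMap := by
    ext z
    refine congrArg Subtype.val (?_ : can u B (1 ⊗ₜ z) = h.equiv (1 ⊗ₜ z))
    rw [can_one, h.equiv_tmul, one_smul]
  rw [this]
  exact h.equiv.bijective

section Local

variable {u} {π : Q →ₗ[A] C} (hex : Exact u π) (hπ : Surjective π)

theorem injective_range_of_surjective_can (h : Surjective (can u B)) :
    Injective ((LinearMap.range u).subtype.lTensor B) := by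
  rw [can_surjective_iff] at h
  rw [injective_iff_map_eq_zero]
  intro x hx
  obtain ⟨y, rfl⟩ := LinearMap.lTensor_surjective B (LinearMap.surjective_rangeRestrict u) x
  rw [← LinearMap.comp_apply, ← LinearMap.lTensor_comp] at hx
  obtain ⟨z, rfl⟩ := h (show y ∈ LinearMap.ker (u.lTensor B) from hx)
  rw [← LinearMap.comp_apply, ← LinearMap.lTensor_comp]
  have : u.rangeRestrict ∘ₗ (LinearMap.ker u).subtype = 0 := by
    ext z
    exact z.2
  rw [this, LinearMap.lTensor_zero, LinearMap.zero_apply]

include hex hπ in
/-- If `ker u → ker (u_κ(p))` generates, then the cokernel `C` is free at `p`. -/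
theorem mem_freeLocus_of_surjective_can [Module.Finite A O] [Module.Finite A Q]
    [Module.Projective A Q] (p : PrimeSpectrum A)
    (h : Surjective (can u p.asIdeal.ResidueField)) : p ∈ Module.freeLocus A C := by
  let L := Localization.AtPrime p.asIdeal
  rw [Module.mem_freeLocus_iff_tensor p L]
  have hπ' : Surjective (π.baseChange L) := by
    rw [LinearMap.baseChange_eq_ltensor]
    exact LinearMap.lTensor_surjective L hπ
  have hex' : Exact ((LinearMap.range u).subtype.baseChange L) (π.baseChange L) := by
    rw [LinearMap.baseChange_eq_ltensor, LinearMap.baseChange_eq_ltensor]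
    exact lTensor_exact L (subtype_range_exact hex) hπ
  have hfr : Module.Free L (L ⊗[A] Q) := Module.free_of_flat_of_isLocalRing
  refine Module.free_of_lTensor_residueField_injective _ _ hπ' hex' ?_
  have h1 := injective_range_of_surjective_can p.asIdeal.ResidueField h
  have h2 : (canc p.asIdeal.ResidueField L Q) ∘
      (((LinearMap.range u).subtype.baseChange L).lTensor (IsLocalRing.ResidueField L)) =
      ((LinearMap.range u).subtype.lTensor p.asIdeal.ResidueField) ∘
        (canc p.asIdeal.ResidueField L (LinearMap.range u)) := by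
    funext x
    exact (canc_nat (LinearMap.range u).subtype p.asIdeal.ResidueField L x).symm
  have h3 := h1.comp (canc p.asIdeal.ResidueField L (LinearMap.range u)).injective
  rw [← h2] at h3
  exact Injective.of_comp h3

include hex hπ in
/-- If the cokernel `C` is free at `p`, then `κ(p) ⊗ ker u → ker (u_κ(p))` is bijective. -/
theorem bijective_can_of_mem_freeLocus [Module.Flat A Q] (p : PrimeSpectrum A)
    (h : p ∈ Module.freeLocus A C) : Bijective (can u p.asIdeal.ResidueField) := by
  let L := Localization.AtPrime p.asIdeal
  have hL : Module.Flat A L := IsLocalization.flat L p.asIdeal.primeCompl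
  rw [Module.mem_freeLocus_iff_tensor p L] at h
  exact bijective_can_of_isBaseChange u _
    (isBaseChange_kres_of_tower p.asIdeal.ResidueField L hex hπ inferInstance)

include hex hπ in
/-- If `ker (u_κ(p)) = 0` then `C` and `O` are free at `p` and `ker u` vanishes at `p`. -/
theorem of_subsingleton_ker [Module.Finite A O] [Module.Finite A Q]
    [Module.Projective A Q] (p : PrimeSpectrum A)
    (h : Subsingleton (LinearMap.ker (u.baseChange p.asIdeal.ResidueField))) :
    p ∈ Module.freeLocus A C ∧ p ∈ Module.freeLocus A O ∧
      Subsingleton (Localization.AtPrime p.asIdeal ⊗[A] LinearMap.ker u) := by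
  refine ⟨mem_freeLocus_of_surjective_can hex hπ p fun x => ⟨0, Subsingleton.elim _ _⟩, ?_⟩
  let L := Localization.AtPrime p.asIdeal
  have hL : Module.Flat A L := IsLocalization.flat L p.asIdeal.primeCompl
  rw [Module.mem_freeLocus_iff_tensor p L]
  have hfr : Module.Free L (L ⊗[A] Q) := Module.free_of_flat_of_isLocalRing
  have h1 : Injective (u.baseChange p.asIdeal.ResidueField) := by
    rw [← LinearMap.ker_eq_bot, ← Submodule.subsingleton_iff_eq_bot]
    exact h
  have h2 : (canc p.asIdeal.ResidueField L Q) ∘
      ((u.baseChange L).lTensor (IsLocalRing.ResidueField L)) =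
      (u.baseChange p.asIdeal.ResidueField) ∘ (canc p.asIdeal.ResidueField L O) := by
    funext x
    exact (canc_nat u p.asIdeal.ResidueField L x).symm
  have h3 := h1.comp (canc p.asIdeal.ResidueField L O).injective
  rw [← h2] at h3
  obtain ⟨l, hl⟩ := (IsLocalRing.split_injective_iff_lTensor_residueField_injective
    (u.baseChange L)).2 (Injective.of_comp h3)
  have hpr : Module.Projective L (L ⊗[A] O) := Module.Projective.of_split _ l hl
  refine ⟨Module.free_of_flat_of_isLocalRing, ?_⟩
  have h4 : Subsingleton (LinearMap.ker (u.baseChange L)) := by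
    rw [Submodule.subsingleton_iff_eq_bot, LinearMap.ker_eq_bot]
    exact Function.HasLeftInverse.injective ⟨l, LinearMap.congr_fun hl⟩
  exact (can_bijective_of_flat_alg u L).1.subsingleton

end Local

section Rank

variable {u} {π : Q →ₗ[A] C} (hex : Exact u π) (hπ : Surjective π)

include hex hπ in
theorem finrank_ker_add (K : Type u) [Field K] [Algebra A K] [Module.Finite A O] [Module.Finite A Q] :
    Module.finrank K (LinearMap.ker (u.baseChange K)) + Module.finrank K (K ⊗[A] Q) =
      Module.finrank K (K ⊗[A] O) + Module.finrank K (K ⊗[A] C) := by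
  have hπ' : Surjective (π.baseChange K) := by
    rw [LinearMap.baseChange_eq_ltensor]
    exact LinearMap.lTensor_surjective K hπ
  have hex' : Exact (u.baseChange K) (π.baseChange K) := by
    rw [LinearMap.baseChange_eq_ltensor, LinearMap.baseChange_eq_ltensor]
    exact lTensor_exact K hex hπ
  have h1 := LinearMap.finrank_range_add_finrank_ker (u.baseChange K)
  have h2 := LinearMap.finrank_range_add_finrank_ker (π.baseChange K)
  rw [LinearMap.range_eq_top.2 hπ', finrank_top] at h2
  rw [hex'.linearMap_ker_eq] at h2
  omega

include hex hπ in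
/-- Reduced base, locally constant `dim ker (u_κ(x))`. -/
theorem projective_of_isLocallyConstant [IsReduced A] [Module.FinitePresentation A O]
    [Module.FinitePresentation A C] [Module.Finite A Q] [Module.Projective A Q]
    (h : IsLocallyConstant (fun x : PrimeSpectrum A =>
      Module.finrank x.asIdeal.ResidueField (LinearMap.ker (u.baseChange x.asIdeal.ResidueField)))) :
    Module.Projective A O ∧ Module.Projective A C := by
  have hQ : Module.FinitePresentation A Q := Module.finitePresentation_of_projective A Q
  have hsum : IsLocallyConstant (fiberRank (R := A) O + fiberRank (R := A) C) := by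
    rw [IsLocallyConstant.iff_eventually_eq] at h ⊢
    intro x
    have e1 := (IsLocallyConstant.iff_eventually_eq _).1
      (isLocallyConstant_fiberRank (R := A) (M := Q)) x
    filter_upwards [e1, h x] with y e1 e2
    have h1 := finrank_ker_add hex hπ x.asIdeal.ResidueField
    have h2 := finrank_ker_add hex hπ y.asIdeal.ResidueField
    simp only [Pi.add_apply, fiberRank] at e1 ⊢
    omega
  have hsum' := hsum
  rw [add_comm] at hsum'
  exact ⟨projective_of_isReduced (isLocallyConstant_of_usc_of_add upperSemicontinuous_fiberRank
    upperSemicontinuous_fiberRank hsum), projective_of_isReduced (isLocallyConstant_of_usc_of_add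
    upperSemicontinuous_fiberRank upperSemicontinuous_fiberRank hsum')⟩

include hex hπ in
/-- If `O` and `C` are projective then `dim ker (u_κ(x))` is locally constant. -/
theorem isLocallyConstant_of_projective [Module.Finite A O] [Module.Projective A O]
    [Module.Projective A C] [Module.Finite A Q] [Module.Projective A Q] :
    IsLocallyConstant (fun x : PrimeSpectrum A =>
      Module.finrank x.asIdeal.ResidueField (LinearMap.ker (u.baseChange x.asIdeal.ResidueField))) := by
  have hC : Module.Finite A C := Module.Finite.of_surjective π hπ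
  have : Module.FinitePresentation A Q := Module.finitePresentation_of_projective A Q
  have : Module.FinitePresentation A O := Module.finitePresentation_of_projective A O
  have : Module.FinitePresentation A C := Module.finitePresentation_of_projective A C
  rw [IsLocallyConstant.iff_eventually_eq]
  intro x
  have e1 := (IsLocallyConstant.iff_eventually_eq _).1
    (isLocallyConstant_fiberRank (R := A) (M := Q)) x
  have e2 := (IsLocallyConstant.iff_eventually_eq _).1
    (isLocallyConstant_fiberRank (R := A) (M := O)) x
  have e3 := (IsLocallyConstant.iff_eventually_eq _).1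
    (isLocallyConstant_fiberRank (R := A) (M := C)) x
  filter_upwards [e1, e2, e3] with y e1 e2 e3
  have h1 := finrank_ker_add hex hπ x.asIdeal.ResidueField
  have h2 := finrank_ker_add hex hπ y.asIdeal.ResidueField
  simp only [fiberRank] at e1 e2 e3 ⊢
  omega

end Rank

section Proj

variable {u} {π : Q →ₗ[A] C} (hex : Exact u π) (hπ : Surjective π)

include hex hπ in
theorem exists_retraction [Module.Projective A Q] [Module.Projective A C] :
    ∃ r : O →ₗ[A] LinearMap.ker u, r ∘ₗ (LinearMap.ker u).subtype = LinearMap.id := by
  obtain ⟨s, hs⟩ := Module.projective_lifting_property π LinearMap.id hπ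
  have hs' : ∀ c, π (s c) = c := fun c => LinearMap.congr_fun hs c
  have hmem : ∀ q, q - s (π q) ∈ LinearMap.range u := fun q =>
    (hex _).mp (by rw [map_sub, hs', sub_self])
  let ρ : Q →ₗ[A] LinearMap.range u :=
    (LinearMap.id - s ∘ₗ π).codRestrict (LinearMap.range u) hmem
  have hρ : ρ ∘ₗ (LinearMap.range u).subtype = LinearMap.id := by
    ext ⟨q, z, rfl⟩
    have : π (u z) = 0 := hex.apply_apply_eq_zero z
    simp [ρ, this]
  have : Module.Projective A (LinearMap.range u) := Module.Projective.of_split _ ρ hρ
  obtain ⟨t, ht⟩ := Module.projective_lifting_property u.rangeRestrict LinearMap.id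
    (LinearMap.surjective_rangeRestrict u)
  have ht' : ∀ c, u (t c) = c := fun c => congrArg Subtype.val (LinearMap.congr_fun ht c)
  have hk : ∀ z, z - t (u.rangeRestrict z) ∈ LinearMap.ker u := by
    intro z
    rw [LinearMap.mem_ker, map_sub, ht']
    simp
  refine ⟨(LinearMap.id - t ∘ₗ u.rangeRestrict).codRestrict (LinearMap.ker u) hk, ?_⟩
  ext ⟨z, hz⟩
  have : u.rangeRestrict z = 0 := by ext; simpa using hz
  simp [this]

include hex hπ in
theorem finite_ker [Module.Finite A O] [Module.Projective A Q] [Module.Projective A C] :
    Module.Finite A (LinearMap.ker u) := by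
  obtain ⟨r, hr⟩ := exists_retraction hex hπ
  exact Module.Finite.of_surjective r (Function.HasRightInverse.surjective ⟨_, LinearMap.congr_fun hr⟩)

include hex hπ in
/-- If `C` is projective, `ker u` is projective iff `O` is. -/
theorem projective_ker_iff [Module.FinitePresentation A O] [Module.Projective A Q]
    [Module.Projective A C] :
    Module.Projective A (LinearMap.ker u) ↔ Module.Projective A O := by
  constructor
  · intro h
    have : Module.Flat A O := (Groth.Agent.Ega3A.LocalKer.flat_iff_flat_ker A u π hπ hex).2 inferInstance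
    exact Module.Flat.projective_of_finitePresentation
  · intro h
    obtain ⟨r, hr⟩ := exists_retraction hex hπ
    exact Module.Projective.of_split _ r hr

end Proj

end K55.KerAlg
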