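import Groth.Agent.Coherent.K55.Pack
import Groth.Agent.Fga.EulerIso

/-!
# `HX X M n`: the cohomology group `Coh.HH X M n` as a plain definition

`Coh.HH X M n` is an abbreviation whose algebraic instances are re-synthesised at every use, which is
expensive for the kernel when `X` is a complicated expression.  `HX` is a definition with its own
instances; `HX.of`, `HX.to` are the identity.
-/

set_option autoImplicit false

universe u

open CategoryTheory CategoryTheory.Limits AlgebraicGeometry Opposite TopologicalSpace TensorProduct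

namespace K55

open Groth.Agent Groth.Agent.Fga.EulerIso

/-- `H^n(X, M)`. -/
def HX (X : Scheme.{u}) (M : X.Modules) (n : ℕ) : Type u := Coh.HH X M n

namespace HX

section

variable {X : Scheme.{u}} (M : X.Modules) (n : ℕ)

noncomputable instance : AddCommGroup (HX X M n) := inferInstanceAs (AddCommGroup (Coh.HH X M n))

noncomputable instance : Module (Coh.Γtop X) (HX X M n) :=
  inferInstanceAs (Module (Coh.Γtop X) (Coh.HH X M n))

/-- The identity. -/
noncomputable def toHH : HX X M n ≃+ Coh.HH X M n := AddEquiv.refl (Coh.HH X M n)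

theorem toHH_smul (r : Coh.Γtop X) (x : HX X M n) : toHH M n (r • x) = r • toHH M n x := rfl

end

section

variable {X : Scheme.{u}} {M N P : X.Modules}

/-- `H^n` of a morphism. -/
noncomputable def map (φ : M ⟶ N) (n : ℕ) : HX X M n →+ HX X N n := HHab (abMap φ) n

theorem map_id (n : ℕ) (x : HX X M n) : map (𝟙 M) n x = x := by
  refine (congrArg (fun t => HHab t n x) (abMap_id M)).trans ?_
  exact HHab_id n x

theorem map_comp (φ : M ⟶ N) (ψ : N ⟶ P) (n : ℕ) (x : HX X M n) :
    map (φ ≫ ψ) n x = map ψ n (map φ n x) := by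
  refine (congrArg (fun t => HHab t n x) (abMap_comp φ ψ)).trans ?_
  exact HHab_comp _ _ n x

theorem map_smul (φ : M ⟶ N) (n : ℕ) (r : Coh.Γtop X) (x : HX X M n) :
    map φ n (r • x) = r • map φ n x := HHab_smul φ n r x

/-- `H^n` of an isomorphism. -/
noncomputable def iso (φ : M ≅ N) (n : ℕ) : HX X M n ≃+ HX X N n where
  toFun := map φ.hom n
  invFun := map φ.inv n
  left_inv x := by rw [← map_comp, φ.hom_inv_id, map_id]
  right_inv x := by rw [← map_comp, φ.inv_hom_id, map_id]
  map_add' x y := (map φ.hom n).map_add x y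

theorem iso_apply (φ : M ≅ N) (n : ℕ) (x : HX X M n) : iso φ n x = map φ.hom n x := rfl

theorem iso_smul (φ : M ≅ N) (n : ℕ) (r : Coh.Γtop X) (x : HX X M n) :
    iso φ n (r • x) = r • iso φ n x := map_smul φ.hom n r x

theorem iso_symm_smul (φ : M ≅ N) (n : ℕ) (r : Coh.Γtop X) (x : HX X N n) :
    (iso φ n).symm (r • x) = r • (iso φ n).symm x := map_smul φ.inv n r x

end

section

variable {X X' : Scheme.{u}} (j : X' ⟶ X) (M : X.Modules)

/-- The pullback map. -/
noncomputable def pull (n : ℕ) : HX X M n →+ HX X' ((Scheme.Modules.pullback j).obj M) n :=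
  CohPull.pullMod j M n

/-- The pullback map over opens. -/
noncomputable def pullOn (g : X' ⟶ X) (U : X.Opens) (U' : X'.Opens) (h : U' ≤ g ⁻¹ᵁ U) (F : X.Modules)
    (n : ℕ) : HX U.toScheme (F.restrict U.ι) n →+
      HX U'.toScheme (((Scheme.Modules.pullback g).obj F).restrict U'.ι) n :=
  (iso (CohPull.pullOnIso g U U' h F) n).toAddMonoidHom.comp (pull (g.resLE U U' h) (F.restrict U.ι) n)

theorem pullOn_apply (g : X' ⟶ X) (U : X.Opens) (U' : X'.Opens) (h : U' ≤ g ⁻¹ᵁ U) (F : X.Modules)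
    (n : ℕ) (x : HX U.toScheme (F.restrict U.ι) n) : pullOn g U U' h F n x =
      iso (CohPull.pullOnIso g U U' h F) n (pull (g.resLE U U' h) (F.restrict U.ι) n x) := rfl

theorem toHH_pullOn (g : X' ⟶ X) (U : X.Opens) (U' : X'.Opens) (h : U' ≤ g ⁻¹ᵁ U) (F : X.Modules)
    (n : ℕ) (x : HX U.toScheme (F.restrict U.ι) n) :
    toHH _ n (pullOn g U U' h F n x) = CohPull.pullOn g U U' h F n (toHH _ n x) := rfl

end

section Comp

variable {A : Type u} [CommRing A] {X : Scheme.{u}} [X.Over (Spec (CommRingCat.of A))]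

/-- `K` computes the cohomology of `F` after the base change `X' → X` over `Spec B → Spec A`. -/
def BC (K : CxData A) (F : X.Modules) (p : ℕ) (θ₀ : HX X F p ≃+ K.H p) (B : Type u) [CommRing B]
    [Algebra A B] {X' : Scheme.{u}} (j : X' ⟶ X) (ρ : B →+* Coh.Γtop X') : Prop :=
  ∃ θ : HX X' ((Scheme.Modules.pullback j).obj F) p ≃+ K.HB p B,
    (∀ (b : B) (x : HX X' ((Scheme.Modules.pullback j).obj F) p), θ (ρ b • x) = b • θ x) ∧
    ∀ x : HX X F p, θ (pull j F p x) = K.res p B (θ₀ x)

/-- `A`-linearity. -/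
def Lin (K : CxData A) {X : Scheme.{u}} (F : X.Modules) (p : ℕ) (θ₀ : HX X F p ≃+ K.H p)
    (ρ : A →+* Coh.Γtop X) : Prop :=
  ∀ (a : A) (x : HX X F p), θ₀ (ρ a • x) = a • θ₀ x

theorem exists_pack (X : Scheme.{u}) [X.Over (Spec (CommRingCat.of A))]
    [IsProper (X ↘ Spec (CommRingCat.of A))]
    [LocallyOfFinitePresentation (X ↘ Spec (CommRingCat.of A))] (F : X.Modules) (hF : CohB1.IsFP F)
    (hfl : FlatMod.IsFlatOver (X ↘ Spec (CommRingCat.of A)) F) :
    ∃ K : CxData A, ∀ p : ℕ, ∃ θ₀ : HX X F p ≃+ K.H p,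
      Lin K F p θ₀ (Coh.toGlobal (X ↘ Spec (CommRingCat.of A))) ∧
      ∀ (B : Type u) [CommRing B] [Algebra A B] (X' : Scheme.{u}) (j : X' ⟶ X)
        (q : X' ⟶ Spec (CommRingCat.of B)) (_ : IsPullback j q (X ↘ Spec (CommRingCat.of A))
          (Spec.map (CommRingCat.ofHom (algebraMap A B)))),
        BC K F p θ₀ B j (Coh.toGlobal q) := by
  obtain ⟨K, hK⟩ := Pack.exists_pack X F hF hfl
  refine ⟨K, fun p => ?_⟩
  obtain ⟨θ₀, h1, h2⟩ := hK p
  refine ⟨(toHH F p).trans θ₀, h1, fun B _ _ X' j q H => ?_⟩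
  obtain ⟨θ, h3, h4⟩ := h2 B X' j q H
  exact ⟨(toHH _ p).trans θ, h3, h4⟩

end Comp

end HX

end K55
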