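import Groth.Prelude.Def_CohCmp
import Groth.Agent.Ega3B.EtPoint
import Groth.Agent.Ega3B.PackageAsm
import Groth.Agent.Fga.EulerIso

/-!
# Squares over affine opens and the action of functions

* `secRing f V : Γ(S, V) →+* Γtop (f⁻¹V)`;
* `toGlobal_strMap`: it is `Coh.toGlobal` of the structure map `f⁻¹V ⟶ Spec Γ(S, V)`;
* `isPullback_strMap`: the cartesian square over `Spec Γ(S', W) → Spec Γ(S, V)`.
-/

set_option autoImplicit false

universe u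

open CategoryTheory CategoryTheory.Limits AlgebraicGeometry Opposite TopologicalSpace

namespace K55.PackV

open Groth.Agent Groth.Agent.Ega3B

variable {X S : Scheme.{u}} (f : X ⟶ S)

/-- The ring map `Γ(S, V) → Γ(f⁻¹V, ⊤)`. -/
noncomputable def secRing (V : S.Opens) : Γ(S, V) →+* Coh.Γtop (f ⁻¹ᵁ V : X.Opens).toScheme :=
  ((f ⁻¹ᵁ V).topIso.inv.hom).comp (f.app V).hom

theorem topIso_inv_app (V : S.Opens) :
    V.topIso.inv ≫ (f ∣_ V).appTop = f.app V ≫ (f ⁻¹ᵁ V).topIso.inv := by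
  have h := (arrowResLEAppIso f V (f ⁻¹ᵁ V) le_rfl).hom.w
  rw [Iso.eq_comp_inv, Category.assoc, Iso.inv_comp_eq]
  have h1 : (f.resLE V (f ⁻¹ᵁ V) le_rfl).appTop = (f ∣_ V).appTop := by
    rw [Scheme.Hom.resLE_eq_morphismRestrict]
  have h2 : f.appLE V (f ⁻¹ᵁ V) le_rfl = f.app V := (Scheme.Hom.app_eq_appLE _).symm
  rw [← h1, ← h2]
  exact h.symm

theorem toGlobal_strMap {V : S.Opens} (hV : IsAffineOpen V) (a : Γ(S, V)) :
    Coh.toGlobal (PackageAsm.strMap f hV) a = secRing f V a := by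
  change ((f ∣_ V) ≫ hV.isoSpec.hom).appTop.hom ((Scheme.ΓSpecIso Γ(S, V)).inv.hom a) = _
  have h1 : (Scheme.ΓSpecIso Γ(S, V)).inv ≫ ((f ∣_ V) ≫ hV.isoSpec.hom).appTop =
      f.app V ≫ (f ⁻¹ᵁ V).topIso.inv := by
    rw [Scheme.Hom.comp_appTop, hV.isoSpec_hom_appTop, Category.assoc, Iso.inv_hom_id_assoc,
      topIso_inv_app]
  exact congr($(h1).hom a)

variable {S' X' : Scheme.{u}} {g' : X' ⟶ X} {f' : X' ⟶ S'} {g : S' ⟶ S}

theorem isPullback_strMap (h : IsPullback g' f' f g) {V : S.Opens} (hV : IsAffineOpen V)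
    {W : S'.Opens} (hW : IsAffineOpen W) (hWV : W ≤ g ⁻¹ᵁ V)
    (hle : f' ⁻¹ᵁ W ≤ g' ⁻¹ᵁ (f ⁻¹ᵁ V)) :
    IsPullback (g'.resLE (f ⁻¹ᵁ V) (f' ⁻¹ᵁ W) hle) (PackageAsm.strMap f' hW)
      (PackageAsm.strMap f hV) (Spec.map (g.appLE V W hWV)) := by
  have h1 := Scheme.Hom.isPullback_resLE (US := V) (UT := W) (UX := f ⁻¹ᵁ V) (UY := f' ⁻¹ᵁ W)
    h hWV le_rfl (inf_eq_right.2 hle).symm
  rw [Scheme.Hom.resLE_eq_morphismRestrict f', Scheme.Hom.resLE_eq_morphismRestrict f] at h1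
  refine IsPullback.of_iso h1 (Iso.refl _) (Iso.refl _) hW.isoSpec hV.isoSpec ?_ ?_ ?_ ?_
  · simp
  · rw [Iso.refl_hom, Category.id_comp]
  · rw [Iso.refl_hom, Category.id_comp]
  · rw [← cancel_mono hV.fromSpec, Category.assoc, Category.assoc, IsAffineOpen.isoSpec_hom_fromSpec,
      Scheme.Hom.resLE_comp_ι, IsAffineOpen.SpecMap_appLE_fromSpec g hV hW hWV, ← Category.assoc,
      IsAffineOpen.isoSpec_hom_fromSpec]

end K55.PackV
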