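import Groth.Agent.Coherent.K55.Leray
import Groth.Agent.Ega3B.FibreCmp

/-!
# The pullback on cohomology along a base change of affine bases, in terms of `F ⊗_A -`
-/

set_option autoImplicit false

universe u

open CategoryTheory CategoryTheory.Limits AlgebraicGeometry Opposite TopologicalSpace
open scoped TensorProduct

namespace K55.PackMap

open Groth.Agent.Ega3B Groth.Agent.Ega3B.FibreIso Groth.Agent.Ega3B.TensorASec Groth.Agent

variable {A : Type u} [CommRing A] {X : Scheme.{u}} [X.Over (Spec (CommRingCat.of A))]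

section Unit

/-- The map `n ↦ 1 ⊗ n` on sections, for an `A`-algebra `B`. -/
noncomputable def uSec (B : Type u) [CommRing B] [Algebra A B] (F : X.Modules) (V : X.Opens) :
    Γ(F, V) →+ Γ(tB A B F, V) :=
  letI := modSec A F V
  (theta F (ModuleCat.of A B) V).comp
    { toFun := fun n => (1 : B) ⊗ₜ[A] n
      map_zero' := TensorProduct.tmul_zero _ _
      map_add' := fun _ _ => TensorProduct.tmul_add _ _ _ }

theorem uSec_apply (B : Type u) [CommRing B] [Algebra A B] (F : X.Modules) (V : X.Opens) (n : Γ(F, V)) :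
    letI := modSec A F V
    uSec B F V n = theta F (ModuleCat.of A B) V ((1 : B) ⊗ₜ[A] n) := rfl

/-- The morphism `F ⟶ F ⊗_A B` of abelian sheaves, `n ↦ 1 ⊗ n`. -/
noncomputable def uHom (B : Type u) [CommRing B] [Algebra A B] (F : X.Modules) :
    Coh.toAb F ⟶ Coh.toAb (tB A B F) :=
  ⟨{ app := fun V => AddCommGrpCat.ofHom (uSec B F V.unop)
     naturality := by
      intro V W i
      ext n
      exact (theta_res F (ModuleCat.of A B) (leOfHom i.unop) (1 : B) n).symm }⟩

theorem uHom_app (B : Type u) [CommRing B] [Algebra A B] (F : X.Modules) (V : X.Opens) (n : Γ(F, V)) :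
    (uHom B F).hom.app (op V) n = uSec (A := A) B F V n := rfl

theorem bijective_uSec (F : X.Modules) (hF : Coh.IsQCoh F) {V : X.Opens} (hV : IsAffineOpen V) :
    Function.Bijective (uSec A F V (A := A)) := by
  let i0 := modSec A F V
  have h1 := bijective_theta F hF (ModuleCat.of A A) hV
  have h2 : Function.Bijective (fun n : Γ(F, V) => (1 : A) ⊗ₜ[A] n) := by
    have := (TensorProduct.lid A Γ(F, V)).symm.bijective
    exact this
  exact h1.comp h2

theorem isIso_uHom (F : X.Modules) (hF : Coh.IsQCoh F) : IsIso (uHom A F (A := A)) := by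
  refine TopCat.Sheaf.isIso_iff_isIso_basis (isBasis_affB X) fun V => ?_
  rw [ConcreteCategory.isIso_iff_bijective]
  exact bijective_uSec F hF V.2

end Unit

section Maps

variable {B : Type u} [CommRing B] [Algebra A B]

/-- The ring map `A → B` as a morphism of `A`-modules. -/
noncomputable abbrev algB (A B : Type u) [CommRing A] [CommRing B] [Algebra A B] :
    ModuleCat.of A A ⟶ ModuleCat.of A B := ModuleCat.ofHom (Algebra.linearMap A B)

theorem uSec_map (F : X.Modules) (V : X.Opens) (n : Γ(F, V)) :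
    ((CohIII.tensorAFunctor A F).map (algB A B)).app V (uSec A F V n) = uSec (A := A) B F V n := by
  let i0 := modSec A F V
  refine (theta_map F (algB A B) V ((1 : A) ⊗ₜ[A] n)).trans ?_
  rw [LinearMap.rTensor_tmul]
  change theta F (ModuleCat.of A B) V ((algebraMap A B 1) ⊗ₜ[A] n) = _
  rw [map_one]
  rfl

theorem uHom_map (F : X.Modules) :
    uHom A F ≫ (SheafOfModules.toSheaf X.ringCatSheaf).map ((CohIII.tensorAFunctor A F).map (algB A B)) =
      uHom B F := by
  apply Sheaf.hom_ext
  ext V n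
  exact uSec_map F V.unop n

theorem algSec_eq (V : X.Opens) (a : A) :
    algSec A V a = Coh.resTop X (op V) (Coh.toGlobal (X ↘ Spec (CommRingCat.of A)) a) := by
  change ((X ↘ Spec (CommRingCat.of A)).appLE ⊤ V le_top).hom _ =
    X.presheaf.map (homOfLE le_top).op ((X ↘ Spec (CommRingCat.of A)).appTop _)
  rfl

theorem uSec_smul (F : X.Modules) (V : X.Opens) (a : A) (n : Γ(F, V)) :
    uSec (A := A) A F V (algSec A V a • n) =
      ((CohIII.tensorAFunctor A F).map (mulB A a)).app V (uSec A F V n) := by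
  let i0 := modSec A F V
  refine Eq.trans ?_ (theta_map F (mulB A a) V ((1 : A) ⊗ₜ[A] n)).symm
  rw [LinearMap.rTensor_tmul]
  change theta F (ModuleCat.of A A) V ((1 : A) ⊗ₜ[A] (a • n)) =
    theta F (ModuleCat.of A A) V ((a * 1) ⊗ₜ[A] n)
  rw [← TensorProduct.smul_tmul, smul_eq_mul]

theorem uHom_smul (F : X.Modules) (a : A) :
    Coh.smulAb F (Coh.toGlobal (X ↘ Spec (CommRingCat.of A)) a) ≫ uHom A F =
      uHom A F ≫ (SheafOfModules.toSheaf X.ringCatSheaf).map
        ((CohIII.tensorAFunctor A F).map (mulB A a)) := by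
  apply Sheaf.hom_ext
  ext V n
  exact uSec_smul F V.unop a n

variable {X' : Scheme.{u}} (j : X' ⟶ X) (q : X' ⟶ Spec (CommRingCat.of B))
  (H : IsPullback j q (X ↘ Spec (CommRingCat.of A)) (Spec.map (CommRingCat.ofHom (algebraMap A B))))
  (F : X.Modules) (hF : Coh.IsQCoh F)

/-- The unit `F ⟶ j_* j^* F` on underlying abelian sheaves. -/
noncomputable abbrev unitAb (j : X' ⟶ X) (F : X.Modules) :
    Coh.toAb F ⟶ (Coh.pushAb j).obj (Coh.toAb ((Scheme.Modules.pullback j).obj F)) :=
  (SheafOfModules.toSheaf X.ringCatSheaf).map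
    ((Scheme.Modules.pullbackPushforwardAdjunction j).unit.app F)

include hF in
theorem phi_uSec (V : X.Opens) (hV : IsAffineOpen V) (n : Γ(F, V)) :
    phi j q H F hF hV (uSec (A := A) B F V n) =
      ((Scheme.Modules.pullbackPushforwardAdjunction j).unit.app F).app V n := by
  let i0 := modSec A F V
  refine (phi_theta j q H F hF hV ((1 : B) ⊗ₜ[A] n)).trans ?_
  rw [psi_tmul, map_one, one_smul]
  change VarietyB.PullSec.sec j F (le_refl (j ⁻¹ᵁ V)) n = _
  rw [VarietyB.PullSec.sec_apply]
  exact Fdesc.QCohStalk.map_self ((Scheme.Modules.pullback j).obj F) (V := j ⁻¹ᵁ V) le_rfl _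

theorem uHom_shHom : uHom B F ≫ shHom j q H F hF = unitAb j F := by
  apply Sheaf.hom_ext
  refine TopCat.Sheaf.hom_ext _ ((Coh.pushAb j).obj
    (Coh.toAb ((Scheme.Modules.pullback j).obj F))) (isBasis_affB X) fun V => ?_
  ext n
  exact (shHom_app j q H F hF V.2 (uSec (A := A) B F V.1 n)).trans (phi_uSec j q H F hF V.1 V.2 n)

end Maps

section Coh

variable {B : Type u} [CommRing B] [Algebra A B] {X' : Scheme.{u}} (j : X' ⟶ X)
  (q : X' ⟶ Spec (CommRingCat.of B))
  (H : IsPullback j q (X ↘ Spec (CommRingCat.of A)) (Spec.map (CommRingCat.ofHom (algebraMap A B))))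
  (F : X.Modules) (hF : Coh.IsQCoh F)

/-- The map `H^p(X, F ⊗_A B) → H^p(X', j^* F)`. -/
noncomputable def lerayMap (p : ℕ) : Coh.HH X (tB A B F) p →+
    Coh.HH X' ((Scheme.Modules.pullback j).obj F) p :=
  K56.PMap.pm (X := X'.toTopCat) (Y := X.toTopCat) j.base
    (G := Coh.toAb (tB A B F)) (H := Coh.toAb ((Scheme.Modules.pullback j).obj F))
    (shHom j q H F hF) p

theorem lerayMap_bijective (p : ℕ) : Function.Bijective (lerayMap j q H F hF p) := by
  have := FibreCmp.isAffineHom_j j q H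
  exact K55.Leray.pm_iso_bijective (X := X'.toTopCat) (Y := X.toTopCat) j.base
    (X.affineOpens : Set (Opens X)) X.isBasis_affineOpens
    (Coh.toAb ((Scheme.Modules.pullback j).obj F))
    (FibreCmp.acyc_of_isAffineHom j ((Scheme.Modules.pullback j).obj F)
      (VarietyB.PullSec.isQCoh_pullback j F hF)) (Coh.toAb (tB A B F)) (shIso j q H F hF) p

theorem lerayMap_uHom (p : ℕ) (x : Coh.HH X F p) :
    lerayMap j q H F hF p (Sheaf.H.map (uHom (A := A) B F) p x) = CohPull.pullMod j F p x := by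
  refine (K56.PMap.pm_map_left (X := X'.toTopCat) (Y := X.toTopCat) j.base
    (uHom (A := A) B F) (shHom j q H F hF) p x).symm.trans ?_
  rw [uHom_shHom]
  rfl

theorem lerayMap_mul (p : ℕ) (b : B) (x : Coh.HH X (tB A B F) p) :
    lerayMap j q H F hF p (Sheaf.H.map ((SheafOfModules.toSheaf X.ringCatSheaf).map
      ((CohIII.tensorAFunctor A F).map (mulB A b))) p x) =
      Coh.toGlobal q b • lerayMap j q H F hF p x := by
  have h1 := K56.PMap.pm_map_left (X := X'.toTopCat) (Y := X.toTopCat) j.base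
    ((SheafOfModules.toSheaf X.ringCatSheaf).map ((CohIII.tensorAFunctor A F).map (mulB A b)))
    (shHom j q H F hF) p x
  have h2 := K56.PMap.pm_map_right (X := X'.toTopCat) (Y := X.toTopCat) j.base
    (G := Coh.toAb (tB A B F)) (shHom j q H F hF)
    (Coh.smulAb ((Scheme.Modules.pullback j).obj F) (Coh.toGlobal q b)) p x
  refine h1.symm.trans (Eq.trans ?_ h2)
  exact congrArg (fun t => K56.PMap.pm (X := X'.toTopCat) (Y := X.toTopCat) j.base
    (G := Coh.toAb (tB A B F)) (H := Coh.toAb ((Scheme.Modules.pullback j).obj F)) t p x)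
    (shHom_mul j q H F hF b)

/-- `H^p(X', j^* F) ≃ H^p(X, F ⊗_A B)`. -/
noncomputable def thetaB (p : ℕ) : Coh.HH X' ((Scheme.Modules.pullback j).obj F) p ≃+
    (CohIII.tensorAFunctor A F ⋙ CohIII.HAb X p).obj (ModuleCat.of A B) :=
  (AddEquiv.ofBijective (lerayMap j q H F hF p) (lerayMap_bijective j q H F hF p)).symm

theorem lerayMap_thetaB (p : ℕ) (x : Coh.HH X' ((Scheme.Modules.pullback j).obj F) p) :
    lerayMap j q H F hF p (thetaB j q H F hF p x) = x :=
  (AddEquiv.ofBijective (lerayMap j q H F hF p) (lerayMap_bijective j q H F hF p)).apply_symm_apply x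

theorem thetaB_smul (p : ℕ) (b : B) (x : Coh.HH X' ((Scheme.Modules.pullback j).obj F) p) :
    thetaB j q H F hF p (Coh.toGlobal q b • x) =
      ((CohIII.tensorAFunctor A F ⋙ CohIII.HAb X p).map (mulB A b)).hom (thetaB j q H F hF p x) := by
  apply (lerayMap_bijective j q H F hF p).1
  rw [lerayMap_thetaB]
  refine Eq.trans ?_ (lerayMap_mul j q H F hF p b (thetaB j q H F hF p x)).symm
  rw [lerayMap_thetaB]

omit hF in
theorem map_uHom_bijective (hF : Coh.IsQCoh F) (p : ℕ) :
    Function.Bijective (Sheaf.H.map (uHom (A := A) A F) p) := by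
  have := isIso_uHom (A := A) F hF
  refine Function.bijective_iff_has_inverse.mpr ⟨Sheaf.H.map (inv (uHom (A := A) A F)) p,
    fun x => ?_, fun x => ?_⟩
  · rw [← Sheaf.H.map_comp_apply, IsIso.hom_inv_id, Sheaf.H.map_id_apply]
  · rw [← Sheaf.H.map_comp_apply, IsIso.inv_hom_id, Sheaf.H.map_id_apply]

/-- `H^p(X, F) ≃ H^p(X, F ⊗_A A)`. -/
noncomputable def theta0 (A : Type u) [CommRing A] {X : Scheme.{u}}
    [X.Over (Spec (CommRingCat.of A))] (F : X.Modules) (hF : Coh.IsQCoh F) (p : ℕ) :
    Coh.HH X F p ≃+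
    (CohIII.tensorAFunctor A F ⋙ CohIII.HAb X p).obj (ModuleCat.of A A) :=
  AddEquiv.ofBijective (Sheaf.H.map (uHom (A := A) A F) p) (map_uHom_bijective F hF p)

theorem theta0_apply (p : ℕ) (x : Coh.HH X F p) :
    theta0 A F hF p x = Sheaf.H.map (uHom (A := A) A F) p x := rfl

theorem theta0_smul (p : ℕ) (a : A) (x : Coh.HH X F p) :
    theta0 A F hF p (Coh.toGlobal (X ↘ Spec (CommRingCat.of A)) a • x) =
      ((CohIII.tensorAFunctor A F ⋙ CohIII.HAb X p).map (mulB A a)).hom (theta0 A F hF p x) := by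
  refine (Sheaf.H.map_comp_apply (Coh.smulAb F (Coh.toGlobal (X ↘ Spec (CommRingCat.of A)) a))
    (uHom (A := A) A F) x).symm.trans ?_
  refine (congrArg (fun t => Sheaf.H.map t p x) (uHom_smul F a)).trans ?_
  exact Sheaf.H.map_comp_apply _ _ x

/-- The pullback `H^p(X, F) → H^p(X', j^* F)` is `H^p` of `F ⊗_A A → F ⊗_A B`. -/
theorem thetaB_pullMod (p : ℕ) (x : Coh.HH X F p) :
    thetaB j q H F hF p (CohPull.pullMod j F p x) =
      ((CohIII.tensorAFunctor A F ⋙ CohIII.HAb X p).map (algB A B)).hom (theta0 A F hF p x) := by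
  apply (lerayMap_bijective j q H F hF p).1
  rw [lerayMap_thetaB]
  refine (lerayMap_uHom j q H F hF p x).symm.trans ?_
  refine congrArg (lerayMap j q H F hF p) ?_
  refine (congrArg (fun t => Sheaf.H.map t p x) (uHom_map (A := A) (B := B) F)).symm.trans ?_
  exact Sheaf.H.map_comp_apply _ _ x

end Coh

end K55.PackMap
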