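import Groth.Agent.Coherent.K55.KerAlg

/-!
# More linear algebra for `CxData`

* `isBaseChange_of_away`: base change over `D(r) ⊆ freeLocus C`.
* `surjective_can_of_algEquiv`: the generation property only depends on the algebra up to isomorphism.
* `isOpen_finrank_eq_zero`, `subsingleton_iff`: the locus where `ker u_κ(x) = 0` is open.
* `exists_isLocallyConstant`.
-/

set_option autoImplicit false

universe u

namespace K55.KerAlg

open TensorProduct LinearMap Function Groth.Agent.Ega3A.FiberRank PrimeSpectrum

variable {A : Type u} [CommRing A] {O Q C : Type u} [AddCommGroup O] [AddCommGroup Q]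
  [AddCommGroup C] [Module A O] [Module A Q] [Module A C]

section Away

variable {u : O →ₗ[A] Q} {π : Q →ₗ[A] C} (hex : Exact u π) (hπ : Surjective π)

include hex hπ in
theorem isBaseChange_of_away [Module.Flat A Q] [Module.FinitePresentation A C] (r : A)
    (hr : (basicOpen r : Set (PrimeSpectrum A)) ⊆ Module.freeLocus A C)
    (B : Type u) [CommRing B] [Algebra A B] (hB : IsUnit (algebraMap A B r)) :
    IsBaseChange B (kres u B) := by
  let A' := Localization.Away r
  let ψ : A' →ₐ[A] B := IsLocalization.liftAlgHom (M := Submonoid.powers r) (S := A')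
    (f := Algebra.ofId A B) (by
      rintro ⟨_, n, rfl⟩
      change IsUnit (algebraMap A B (r ^ n))
      rw [map_pow]
      exact hB.pow n)
  let _ : Algebra A' B := ψ.toRingHom.toAlgebra
  have : IsScalarTower A A' B := IsScalarTower.of_algebraMap_eq fun a => (ψ.commutes a).symm
  have hL : Module.Flat A A' := IsLocalization.flat A' (Submonoid.powers r)
  rw [Module.basicOpen_subset_freeLocus_iff] at hr
  have hC : Module.Flat A' (A' ⊗[A] C) := by
    have : Module.Projective A' (LocalizedModule (Submonoid.powers r) C) := hr
    exact Module.Flat.of_linearEquiv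
      (LocalizedModule.equivTensorProduct (Submonoid.powers r) C).symm
  exact isBaseChange_kres_of_tower B A' hex hπ hC

end Away

section AlgEquiv

variable (u : O →ₗ[A] Q) {B B' : Type u} [CommRing B] [CommRing B'] [Algebra A B] [Algebra A B']

theorem lTensor_algHom (e : B →ₐ[A] B') (M N : Type u) [AddCommGroup M] [Module A M]
    [AddCommGroup N] [Module A N] (v : M →ₗ[A] N) (x : B ⊗[A] M) :
    v.lTensor B' (e.toLinearMap.rTensor M x) = e.toLinearMap.rTensor N (v.lTensor B x) := by
  induction x with
  | zero => simp
  | add x y hx hy => rw [map_add, map_add, map_add, map_add, hx, hy]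
  | tmul a m => rfl

theorem surjective_can_of_algEquiv (e : B ≃ₐ[A] B') (h : Surjective (can u B)) :
    Surjective (can u B') := by
  rw [can_surjective_iff] at h ⊢
  intro x hx
  have h1 : e.symm.toAlgHom.toLinearMap.rTensor O x ∈ LinearMap.ker (u.lTensor B) := by
    rw [LinearMap.mem_ker] at hx ⊢
    rw [lTensor_algHom, hx, map_zero]
  obtain ⟨y, hy⟩ := h h1
  refine ⟨e.toAlgHom.toLinearMap.rTensor _ y, ?_⟩
  rw [lTensor_algHom, hy, ← LinearMap.comp_apply, ← LinearMap.rTensor_comp]
  have : e.toAlgHom.toLinearMap ∘ₗ e.symm.toAlgHom.toLinearMap = LinearMap.id := by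
    ext b
    exact e.apply_symm_apply b
  rw [this, LinearMap.rTensor_id, LinearMap.id_apply]

end AlgEquiv

section Rank

variable {u : O →ₗ[A] Q} {π : Q →ₗ[A] C} (hex : Exact u π) (hπ : Surjective π)

/-- The dimension of `ker u_κ(x)`. -/
noncomputable def kr (u : O →ₗ[A] Q) (x : PrimeSpectrum A) : ℕ :=
  Module.finrank x.asIdeal.ResidueField (LinearMap.ker (u.baseChange x.asIdeal.ResidueField))

theorem subsingleton_iff_kr (u : O →ₗ[A] Q) [Module.Finite A O] (x : PrimeSpectrum A) :
    Subsingleton (LinearMap.ker (u.baseChange x.asIdeal.ResidueField)) ↔ kr u x = 0 := by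
  unfold kr
  let _ : Field x.asIdeal.ResidueField := inferInstance
  exact (Module.finrank_zero_iff (R := x.asIdeal.ResidueField)
    (M := LinearMap.ker (u.baseChange x.asIdeal.ResidueField))).symm

include hex hπ in
theorem upperSemicontinuous_kr [Module.Finite A O] [Module.Finite A Q] [Module.Projective A Q] :
    UpperSemicontinuous (kr u) := by
  have : Module.FinitePresentation A Q := Module.finitePresentation_of_projective A Q
  have : Module.Finite A C := Module.Finite.of_surjective π hπ
  intro x n hn
  have e1 := (IsLocallyConstant.iff_eventually_eq _).1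
    (isLocallyConstant_fiberRank (R := A) (M := Q)) x
  have h1 : ∀ᶠ y in nhds x, fiberRank O y < fiberRank O x + 1 :=
    upperSemicontinuous_fiberRank x _ (Nat.lt_succ_self _)
  have h2 : ∀ᶠ y in nhds x, fiberRank C y < fiberRank C x + 1 :=
    upperSemicontinuous_fiberRank x _ (Nat.lt_succ_self _)
  filter_upwards [e1, h1, h2] with y e1 h1 h2
  have h3 := finrank_ker_add hex hπ x.asIdeal.ResidueField
  have h4 := finrank_ker_add hex hπ y.asIdeal.ResidueField
  simp only [fiberRank, kr] at e1 h1 h2 hn ⊢
  omega

include hex hπ in
theorem isOpen_subsingleton [Module.Finite A O] [Module.Finite A Q] [Module.Projective A Q] :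
    IsOpen {x : PrimeSpectrum A |
      Subsingleton (LinearMap.ker (u.baseChange x.asIdeal.ResidueField))} := by
  have h := upperSemicontinuous_kr hex hπ
  have h1 := upperSemicontinuous_iff_isOpen_preimage.1 h 1
  convert h1 using 1
  ext x
  simp only [Set.mem_ofPred_eq, Set.mem_preimage, Set.mem_Iio]
  rw [subsingleton_iff_kr]
  omega

include hex hπ in
/-- On an open where `O` and `C` are free, `dim ker u_κ(x)` is locally constant. -/
theorem eventually_kr_eq [Module.FinitePresentation A O] [Module.Finite A Q] [Module.Projective A Q]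
    [Module.FinitePresentation A C]
    (x : PrimeSpectrum A) (hO : x ∈ Module.freeLocus A O) (hC : x ∈ Module.freeLocus A C) :
    ∀ᶠ y in nhds x, kr u y = kr u x := by
  have : Module.FinitePresentation A Q := Module.finitePresentation_of_projective A Q
  have key : ∀ (M : Type u) [AddCommGroup M] [Module A M] [Module.FinitePresentation A M],
      x ∈ Module.freeLocus A M → ∀ᶠ y in nhds x, fiberRank M y = fiberRank M x := by
    intro M _ _ _ hM
    have hopen : IsOpen (Module.freeLocus A M) := Module.isOpen_freeLocus
    have hfr : ∀ y ∈ Module.freeLocus A M, fiberRank M y = Module.rankAtStalk M y := by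
      intro y hy
      have hy' := hy
      rw [Module.mem_freeLocus_iff_tensor y (Localization.AtPrime y.asIdeal)] at hy'
      have h1 : Module.rankAtStalk (R := A) M y = Module.finrank (Localization.AtPrime y.asIdeal)
          (Localization.AtPrime y.asIdeal ⊗[A] M) := by
        rw [Module.rankAtStalk]
        exact (LocalizedModule.equivTensorProduct y.asIdeal.primeCompl M).finrank_eq
      rw [h1, fiberRank, ← (canc y.asIdeal.ResidueField (Localization.AtPrime y.asIdeal) M).finrank_eq]
      exact Module.finrank_baseChange
    have hl := Module.isLocallyConstant_rankAtStalk_freeLocus (R := A) (M := M)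
    rw [IsLocallyConstant.iff_eventually_eq] at hl
    have h2 := hl ⟨x, hM⟩
    rw [nhds_subtype_eq_comap, Filter.eventually_comap] at h2
    filter_upwards [h2, hopen.mem_nhds hM] with y h2 h3
    rw [hfr y h3, hfr x hM]
    exact h2 ⟨y, h3⟩ rfl
  have e1 := (IsLocallyConstant.iff_eventually_eq _).1
    (isLocallyConstant_fiberRank (R := A) (M := Q)) x
  filter_upwards [e1, key O hO, key C hC] with y e1 e2 e3
  have h1 := finrank_ker_add hex hπ x.asIdeal.ResidueField
  have h2 := finrank_ker_add hex hπ y.asIdeal.ResidueField
  simp only [fiberRank, kr] at e1 e2 e3 ⊢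
  omega

end Rank

section FreeLocus

variable {u : O →ₗ[A] Q} {π : Q →ₗ[A] C} (hex : Exact u π) (hπ : Surjective π)

include hex hπ in
/-- If `C` is free at `p`, then `ker u` is free at `p` iff `O` is. -/
theorem mem_freeLocus_ker_iff [Module.Finite A O] [Module.Finite A Q] [Module.Projective A Q]
    (p : PrimeSpectrum A) (hC : p ∈ Module.freeLocus A C) :
    p ∈ Module.freeLocus A (LinearMap.ker u) ↔ p ∈ Module.freeLocus A O := by
  let L := Localization.AtPrime p.asIdeal
  have hL : Module.Flat A L := IsLocalization.flat L p.asIdeal.primeCompl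
  rw [Module.mem_freeLocus_iff_tensor p L] at hC
  rw [Module.mem_freeLocus_iff_tensor p L, Module.mem_freeLocus_iff_tensor p L]
  have hπ' : Surjective (π.baseChange L) := by
    rw [LinearMap.baseChange_eq_ltensor]
    exact LinearMap.lTensor_surjective L hπ
  have hex' : Exact (u.baseChange L) (π.baseChange L) := by
    rw [LinearMap.baseChange_eq_ltensor, LinearMap.baseChange_eq_ltensor]
    exact lTensor_exact L hex hπ
  let e : L ⊗[A] LinearMap.ker u ≃ₗ[L] LinearMap.ker (u.baseChange L) :=
    LinearEquiv.ofBijective (can u L) (can_bijective_of_flat_alg u L)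
  have hfin := finite_ker hex' hπ'
  have hfl := Groth.Agent.Ega3A.LocalKer.flat_iff_flat_ker L (u.baseChange L) (π.baseChange L)
    hπ' hex'
  constructor
  · intro h
    have h1 : Module.Flat L (LinearMap.ker (u.baseChange L)) := by
      have := Module.Free.of_equiv e
      infer_instance
    have h2 := hfl.2 h1
    exact Module.free_of_flat_of_isLocalRing (R := L) (P := L ⊗[A] O)
  · intro h
    have h1 := hfl.1 inferInstance
    have h2 : Module.Free L (LinearMap.ker (u.baseChange L)) :=
      Module.free_of_flat_of_isLocalRing (R := L) (P := LinearMap.ker (u.baseChange L))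
    exact Module.Free.of_equiv e.symm

end FreeLocus

end K55.KerAlg
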