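import Groth.Agent.Coherent.K55.PackV
import Groth.Agent.Coherent.K55.KerAlg2
import Groth.Agent.CohqA.BaseChangeMod
import Groth.Agent.Ega4late.H534.FibApp
import Groth.Agent.Ega3B.RpushAff
import Groth.Agent.Ega3B.SpecPoint
import Groth.Agent.Ega3B.FibreRank

/-!
# Affine form of cohomology and base change

`IsBCOn`: the pullback map `H^p(f⁻¹V, F) → H^p(f'⁻¹W, g'^*F)` is a base change.
`GenOn`: its image generates.
-/

set_option autoImplicit false

universe u

open CategoryTheory CategoryTheory.Limits AlgebraicGeometry Opposite TopologicalSpace TensorProduct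

namespace K55.Aff

open Groth.Agent Groth.Agent.Ega3B K55.PackV K55.KerAlg Function
open Groth.Agent.CohqA.BaseChangeMod (IsBC isBC_iff_isBaseChange)

section Alg

variable {A B : Type u} [CommRing A] [CommRing B] {φ : A →+* B} {M N M' N' : Type u}
  [AddCommGroup M] [AddCommGroup N] [AddCommGroup M'] [AddCommGroup N']

theorem isBC_transport [Module A M] [Module B N] [Module A M'] [Module B N']
    (e : M ≃+ M') (he : ∀ (a : A) (x : M), e (a • x) = a • e x)
    (e' : N ≃+ N') (he' : ∀ (b : B) (x : N), e' (b • x) = b • e' x) (m : M →+ N) (m' : M' →+ N')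
    (h : ∀ x, e' (m x) = m' (e x)) (H : IsBC φ m') : IsBC φ m := by
  refine ⟨fun r x => e'.injective ?_, fun Q _ _ g hg => ?_⟩
  · rw [h, he, H.map_smul, he', h]
  · have hsymm : ∀ (a : A) (x : M'), e.symm (a • x) = a • e.symm x := fun a x => by
      apply e.injective
      rw [e.apply_symm_apply, he, e.apply_symm_apply]
    have hsymm' : ∀ (b : B) (x : N'), e'.symm (b • x) = b • e'.symm x := fun b x => by
      apply e'.injective
      rw [e'.apply_symm_apply, he', e'.apply_symm_apply]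
    obtain ⟨g', hg', hu⟩ := H.lift Q (g.comp e.symm.toAddMonoidHom) (fun r x => by
      change g (e.symm (r • x)) = φ r • g (e.symm x)
      rw [hsymm, hg])
    refine ⟨{ g'.toAddMonoidHom.comp e'.toAddMonoidHom with
      map_smul' := fun b x => ?_ }, fun x => ?_, fun g'' h'' => ?_⟩
    · change g' (e' (b • x)) = b • g' (e' x)
      rw [he', g'.map_smul]
    · change g' (e' (m x)) = g x
      rw [h, hg']
      change g (e.symm (e x)) = g x
      rw [e.symm_apply_apply]
    · let k : N' →ₗ[B] Q := { g''.toAddMonoidHom.comp e'.symm.toAddMonoidHom with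
        map_smul' := fun b x => by
          change g'' (e'.symm (b • x)) = b • g'' (e'.symm x)
          rw [hsymm', g''.map_smul] }
      have hk := hu k fun x => by
        change g'' (e'.symm (m' x)) = g (e.symm x)
        rw [← h'' (e.symm x)]
        congr 1
        apply e'.injective
        rw [e'.apply_symm_apply, h, e.apply_symm_apply]
      ext x
      change g'' x = g' (e' x)
      rw [← hk]
      change g'' x = g'' (e'.symm (e' x))
      rw [e'.symm_apply_apply]

theorem span_transport [Module B N] [Module B N']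
    (e : M ≃+ M') (e' : N ≃+ N') (he' : ∀ (b : B) (x : N), e' (b • x) = b • e' x) (m : M → N)
    (m' : M' → N') (h : ∀ x, e' (m x) = m' (e x)) :
    Submodule.span B (Set.range m) = ⊤ ↔ Submodule.span B (Set.range m') = ⊤ := by
  let E : N ≃ₗ[B] N' := { e' with map_smul' := he' }
  have h1 : (Submodule.span B (Set.range m)).map E.toLinearMap = Submodule.span B (Set.range m') := by
    rw [Submodule.map_span]
    congr 1
    ext y
    constructor
    · rintro ⟨_, ⟨x, rfl⟩, rfl⟩
      exact ⟨e x, (h x).symm⟩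
    · rintro ⟨x, rfl⟩
      refine ⟨_, ⟨e.symm x, rfl⟩, ?_⟩
      change e' (m (e.symm x)) = m' x
      rw [h, e.apply_symm_apply]
  rw [← h1]
  constructor
  · intro h2
    rw [h2, Submodule.map_top, LinearMap.range_eq_top]
    exact E.surjective
  · intro h2
    apply Submodule.map_injective_of_injective (f := E.toLinearMap) E.injective
    rw [h2, Submodule.map_top, eq_comm, LinearMap.range_eq_top]
    exact E.surjective

theorem isBC_mk [Algebra A B] [Module A M] (hφ : algebraMap A B = φ) :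
    IsBC φ (TensorProduct.mk A B M 1).toAddMonoidHom := by
  subst hφ
  exact (isBC_iff_isBaseChange (TensorProduct.mk A B M 1)).2 (TensorProduct.isBaseChange A M B)

theorem isBC_of_linearEquiv [Algebra A B] [Module A M] [Module B N] (hφ : algebraMap A B = φ)
    (e : B ⊗[A] M ≃ₗ[B] N) (m : M →+ N) (h : ∀ x, e (1 ⊗ₜ x) = m x) : IsBC φ m :=
  (isBC_mk hφ).of_equiv e h

/-- The transport in the situation of the package. -/
theorem isBC_of_can [Algebra A B] [Module A M] [Module B N]
    (hφ : algebraMap A B = φ) {O Q : Type u} [AddCommGroup O]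
    [AddCommGroup Q] [Module A O] [Module A Q] (u : O →ₗ[A] Q)
    (e : M ≃+ LinearMap.ker u) (he : ∀ (a : A) (x : M), e (a • x) = a • e x)
    (e' : N ≃+ LinearMap.ker (u.baseChange B)) (he' : ∀ (b : B) (x : N), e' (b • x) = b • e' x)
    (m : M →+ N) (hm : ∀ x, e' (m x) = kres u B (e x))
    (h : Bijective (can u B)) : IsBC φ m := by
  let E : M ≃ₗ[A] LinearMap.ker u := { e with map_smul' := he }
  let E' : N ≃ₗ[B] LinearMap.ker (u.baseChange B) := { e' with map_smul' := he' }
  refine isBC_of_linearEquiv hφ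
    ((E.baseChange A B M _).trans ((LinearEquiv.ofBijective (can u B) h).trans E'.symm)) m
    fun x => ?_
  rw [LinearEquiv.trans_apply, LinearEquiv.trans_apply, LinearEquiv.symm_apply_eq]
  refine Eq.trans ?_ (hm x).symm
  exact can_one u B (E x)

end Alg

section Defs

variable {X S : Scheme.{u}} (f : X ⟶ S) (F : X.Modules)

/-- `Γ(S, V)` acts on `H^p(f⁻¹V, F)`. -/
@[reducible] noncomputable def modV (V : S.Opens) (p : ℕ) : Module Γ(S, V) (HV f F V p) :=
  Module.compHom _ (secRing f V)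

section

variable {S' X' : Scheme.{u}} (g' : X' ⟶ X) (f' : X' ⟶ S') (g : S' ⟶ S) (V : S.Opens)
  (W : S'.Opens) (hWV : W ≤ g ⁻¹ᵁ V) (hle : f' ⁻¹ᵁ W ≤ g' ⁻¹ᵁ (f ⁻¹ᵁ V)) (p : ℕ)

/-- The pullback map `H^p(f⁻¹V, F) → H^p(f'⁻¹W, g'^*F)` is a base change. -/
def IsBCOn : Prop :=
  letI := modV f F V p
  letI := modV f' ((Scheme.Modules.pullback g').obj F) W p
  IsBC (g.appLE V W hWV).hom (HX.pullOn g' (f ⁻¹ᵁ V) (f' ⁻¹ᵁ W) hle F p)

/-- The image of `H^p(f⁻¹V, F) → H^p(f'⁻¹W, g'^*F)` generates. -/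
def GenOn : Prop :=
  letI := modV f' ((Scheme.Modules.pullback g').obj F) W p
  Submodule.span Γ(S', W) (Set.range (HX.pullOn g' (f ⁻¹ᵁ V) (f' ⁻¹ᵁ W) hle F p)) = ⊤

end

section

variable {f F} {V : S.Opens} {K : CxData Γ(S, V)} {p : ℕ} {θ₀ : HV f F V p ≃+ K.H p}
  {S' X' : Scheme.{u}} {g' : X' ⟶ X} {f' : X' ⟶ S'} {g : S' ⟶ S} {W : S'.Opens}
  {hWV : W ≤ g ⁻¹ᵁ V} {hle : f' ⁻¹ᵁ W ≤ g' ⁻¹ᵁ (f ⁻¹ᵁ V)}

theorem isBCOn_of [Algebra Γ(S, V) Γ(S', W)]
    (halg : algebraMap Γ(S, V) Γ(S', W) = (g.appLE V W hWV).hom)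
    (hL : HX.Lin K (F.restrict (f ⁻¹ᵁ V).ι) p θ₀ (secRing f V))
    (hB : BCat f F K p θ₀ g' f' W hle) (h : Bijective (can (K.u p) Γ(S', W))) :
    IsBCOn f F g' f' g V W hWV hle p := by
  obtain ⟨θ, h1, h2⟩ := hB
  let i1 := modV f F V p
  let i2 := modV f' ((Scheme.Modules.pullback g').obj F) W p
  have e1 : ∀ (a : Γ(S, V)) (x : HV f F V p), θ₀ (a • x) = a • θ₀ x := fun a x => hL a x
  have e2 : ∀ (b : Γ(S', W)) (x : HV f' ((Scheme.Modules.pullback g').obj F) W p),
    θ (b • x) = b • θ x := fun b x => h1 b x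
  exact isBC_of_can halg (K.u p) θ₀ e1 θ e2 (HX.pullOn g' (f ⁻¹ᵁ V) (f' ⁻¹ᵁ W) hle F p) h2 h

theorem genOn_iff [Algebra Γ(S, V) Γ(S', W)]
    (hB : BCat f F K p θ₀ g' f' W hle) :
    GenOn f F g' f' V W hle p ↔ Surjective (can (K.u p) Γ(S', W)) := by
  obtain ⟨θ, h1, h2⟩ := hB
  rw [can_surjective_iff_span]
  let i2 := modV f' ((Scheme.Modules.pullback g').obj F) W p
  have e2 : ∀ (b : Γ(S', W)) (x : HV f' ((Scheme.Modules.pullback g').obj F) W p),
    θ (b • x) = b • θ x := fun b x => h1 b x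
  have := span_transport (B := Γ(S', W)) (M := HV f F V p) (M' := K.H p)
    (N := HV f' ((Scheme.Modules.pullback g').obj F) W p) (N' := K.HB p Γ(S', W)) θ₀ θ e2
    (HX.pullOn g' (f ⁻¹ᵁ V) (f' ⁻¹ᵁ W) hle F p) (kres (K.u p) Γ(S', W))
  exact this h2

end

section Fibre

variable {f F}

/-- The algebra isomorphism between functions on `Spec κ(y)` and the residue field of the prime. -/
theorem exists_algEquiv {V : S.Opens} (hV : IsAffineOpen V) (y : V)
    (hle : (⊤ : (Spec (S.residueField y.1)).Opens) ≤ (S.fromSpecResidueField y.1) ⁻¹ᵁ V) :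
    letI := ((S.fromSpecResidueField y.1).appLE V ⊤ hle).hom.toAlgebra
    Nonempty (Γ(Spec (S.residueField y.1), ⊤) ≃ₐ[Γ(S, V)]
      (hV.primeIdealOf y).asIdeal.ResidueField) := by
  let _ := ((S.fromSpecResidueField y.1).appLE V ⊤ hle).hom.toAlgebra
  obtain ⟨σ, hσ⟩ := FibreRank.exists_sigma hV y
  let e : Γ(Spec (S.residueField y.1), ⊤) ≃+* S.residueField y.1 :=
    (Scheme.ΓSpecIso (S.residueField y.1)).commRingCatIsoToRingEquiv
  refine ⟨AlgEquiv.ofRingEquiv (f := e.trans σ) fun a => ?_⟩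
  rw [← hσ]
  change σ (e ((S.fromSpecResidueField y.1).appLE V ⊤ hle a)) = _
  rw [Ega4late.H534.FibApp.residue_appLE y.2 a]
  congr 1
  change (Scheme.ΓSpecIso (S.residueField y.1)).hom ((Scheme.ΓSpecIso (S.residueField y.1)).inv _) = _
  exact congr($((Scheme.ΓSpecIso (S.residueField y.1)).inv_hom_id) _)

/-- The fibre square. -/
theorem isPullback_fibre (y : S) : IsPullback (f.fiberι y) (f.fiberToSpecResidueField y) f
    (S.fromSpecResidueField y) := IsPullback.of_hasPullback _ _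

/-- Generation at the fibre is freeness of `O (p + 1)` at the point. -/
theorem genOn_fibre_iff {V : S.Opens} (hV : IsAffineOpen V) (K : CxData Γ(S, V)) (p : ℕ)
    (θ₀ : HV f F V p ≃+ K.H p) (hK : ComputesV f F hV K p θ₀) (y : V)
    (hle : (f.fiberToSpecResidueField y.1) ⁻¹ᵁ ⊤ ≤ (f.fiberι y.1) ⁻¹ᵁ (f ⁻¹ᵁ V)) :
    GenOn f F (f.fiberι y.1) (f.fiberToSpecResidueField y.1) V ⊤ hle p ↔
      hV.primeIdealOf y ∈ Module.freeLocus Γ(S, V) (K.O (p + 1)) := by
  have hle' := Ega4late.H534.FibApp.top_le y.2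
  let _ := ((S.fromSpecResidueField y.1).appLE V ⊤ hle').hom.toAlgebra
  have hB : BCat f F K p θ₀ (f.fiberι y.1) (f.fiberToSpecResidueField y.1) ⊤ hle :=
    hK.2.1 _ _ _ (isPullback_fibre y.1) ⊤ (isAffineOpen_top _) hle' hle
  rw [genOn_iff hB]
  obtain ⟨e⟩ := exists_algEquiv hV y hle'
  constructor
  · intro h
    exact mem_freeLocus_of_surjective_can (K.exact p) (K.surj p) _
      (surjective_can_of_algEquiv (K.u p) e h)
  · intro h
    exact surjective_can_of_algEquiv (K.u p) e.symm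
      (bijective_can_of_mem_freeLocus (K.exact p) (K.surj p) _ h).2

end Fibre

end Defs

end K55.Aff
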