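import Groth.Agent.Coherent.K55.Aff
import Groth.Agent.CohqA.PullbackSections
import Groth.Agent.Dcoh.ResFree

/-!
# Sections of `R^p f_* F` and the package
-/

set_option autoImplicit false

universe u

open CategoryTheory CategoryTheory.Limits AlgebraicGeometry Opposite TopologicalSpace TensorProduct

namespace K55.KerAlg

open LinearMap Function PrimeSpectrum

variable {A : Type u} [CommRing A] {O Q C : Type u} [AddCommGroup O] [AddCommGroup Q]
  [AddCommGroup C] [Module A O] [Module A Q] [Module A C]

/-- If `D(r)` is contained in the free locus of `C`, then `B ⊗ C` is projective when `r` is a unit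
in `B`. -/
theorem projective_tensor_of_away [Module.FinitePresentation A C] (r : A)
    (hr : (basicOpen r : Set (PrimeSpectrum A)) ⊆ Module.freeLocus A C)
    (B : Type u) [CommRing B] [Algebra A B] (hB : IsUnit (algebraMap A B r)) :
    Module.Projective B (B ⊗[A] C) := by
  let A' := Localization.Away r
  let ψ : A' →ₐ[A] B := IsLocalization.liftAlgHom (M := Submonoid.powers r) (S := A')
    (f := Algebra.ofId A B) (by
      rintro ⟨_, n, rfl⟩
      change IsUnit (algebraMap A B (r ^ n))
      rw [map_pow]
      exact hB.pow n)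
  let _ : Algebra A' B := ψ.toRingHom.toAlgebra
  have : IsScalarTower A A' B := IsScalarTower.of_algebraMap_eq fun a => (ψ.commutes a).symm
  rw [Module.basicOpen_subset_freeLocus_iff] at hr
  have hC : Module.Projective A' (A' ⊗[A] C) := by
    have : Module.Projective A' (LocalizedModule (Submonoid.powers r) C) := hr
    exact Module.Projective.of_equiv (LocalizedModule.equivTensorProduct (Submonoid.powers r) C)
  exact Module.Projective.of_equiv (AlgebraTensorModule.cancelBaseChange A A' B B C)

section

variable {u : O →ₗ[A] Q} {π : Q →ₗ[A] C} (hex : Exact u π) (hπ : Surjective π)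

include hex hπ in
theorem finite_projective_tensor_ker (B : Type u) [CommRing B] [Algebra A B] [Module.Flat A B]
    [Module.Finite A O] [Module.Projective A Q]
    (hC : Module.Projective B (B ⊗[A] C)) (hO : Module.Projective B (B ⊗[A] O)) :
    Module.Finite B (B ⊗[A] LinearMap.ker u) ∧ Module.Projective B (B ⊗[A] LinearMap.ker u) := by
  have hπ' : Surjective (π.baseChange B) := by
    rw [LinearMap.baseChange_eq_ltensor]
    exact LinearMap.lTensor_surjective B hπ
  have hex' : Exact (u.baseChange B) (π.baseChange B) := by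
    rw [LinearMap.baseChange_eq_ltensor, LinearMap.baseChange_eq_ltensor]
    exact lTensor_exact B hex hπ
  let e : B ⊗[A] LinearMap.ker u ≃ₗ[B] LinearMap.ker (u.baseChange B) :=
    LinearEquiv.ofBijective (can u B) (can_bijective_of_flat_alg u B)
  have h1 := finite_ker hex' hπ'
  obtain ⟨r, hr⟩ := exists_retraction hex' hπ'
  have h2 : Module.Projective B (LinearMap.ker (u.baseChange B)) := Module.Projective.of_split _ r hr
  exact ⟨Module.Finite.equiv e.symm, Module.Projective.of_equiv e.symm⟩

end

theorem subset_freeLocus_of_away {M : Type u} [AddCommGroup M] [Module A M] (r : A)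
    (h1 : Module.Finite (Localization.Away r) (LocalizedModule.Away r M))
    (h2 : Module.Flat (Localization.Away r) (LocalizedModule.Away r M)) :
    (basicOpen r : Set (PrimeSpectrum A)) ⊆ Module.freeLocus A M := by
  have h3 : Module.freeLocus (Localization.Away r) (LocalizedModule.Away r M) = Set.univ :=
    Module.freeLocus_eq_univ
  rw [← PrimeSpectrum.localization_away_comap_range (Localization.Away r) r,
    ← Set.preimage_eq_univ_iff, ← Module.freeLocus_localization (Submonoid.powers r), h3]

end K55.KerAlg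

namespace K55.Aff

open Groth.Agent Groth.Agent.Ega3B K55.PackV K55.KerAlg Function
open Groth.Agent.CohqA.BaseChangeMod (IsBC isBC_iff_isBaseChange)
open Groth.Agent.CohqA.PullbackUniv Groth.Agent.CohqA.PullbackAffine

section Res

variable {X : Scheme.{u}}

theorem id_appLE_eq {U V : X.Opens} (h : V ≤ U) :
    (𝟙 X : X ⟶ X).appLE U V h = X.presheaf.map (homOfLE h).op := by
  simp only [Scheme.Hom.appLE, Scheme.Hom.id_app]
  exact Category.id_comp _

theorem isUniv_id (F : X.Modules) :
    IsUniv (𝟙 X) ((Scheme.Modules.pushforwardId X).inv.app F) := by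
  intro G
  have h : (fun φ : F ⟶ G => (Scheme.Modules.pushforwardId X).inv.app F ≫
      (Scheme.Modules.pushforward (𝟙 X)).map φ) =
      fun φ => φ ≫ (Scheme.Modules.pushforwardId X).inv.app G := by
    funext φ
    exact ((Scheme.Modules.pushforwardId X).inv.naturality φ).symm
  rw [h]
  constructor
  · intro φ ψ hφ
    exact (cancel_mono _).1 hφ
  · intro ψ
    exact ⟨ψ ≫ (Scheme.Modules.pushforwardId X).hom.app G, by
      dsimp only
      rw [Category.assoc, ← NatTrans.comp_app, Iso.hom_inv_id, NatTrans.id_app]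
      exact Category.comp_id _⟩

/-- Restriction of sections of a quasi-coherent module between affine opens is a base change. -/
theorem isBC_res (F : X.Modules) (hF : Coh.IsQCoh F) {U V : X.Opens} (hU : IsAffineOpen U)
    (hV : IsAffineOpen V) (h : V ≤ U) :
    IsBC (X.presheaf.map (homOfLE h).op).hom (F.presheaf.map (homOfLE h).op).hom := by
  have : F.IsQuasicoherent := hF
  have h1 := CohqA.PullbackSections.isBC_secMap (M := F) (N := F) (𝟙 X)
    ((Scheme.Modules.pushforwardId X).inv.app F) (isUniv_id F) hU hV h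
  rw [id_appLE_eq] at h1
  have h2 : secMap (𝟙 X) ((Scheme.Modules.pushforwardId X).inv.app F) U V h =
      F.presheaf.map (homOfLE h).op := by
    exact Category.id_comp _
  rw [h2] at h1
  exact h1

/-- Sections over a smaller affine open as a tensor product. -/
theorem nonempty_tensor_equiv (M : X.Modules) (hM : Coh.IsQCoh M) {U V : X.Opens}
    (hU : IsAffineOpen U) (hV : IsAffineOpen V) (h : V ≤ U) (H : Type u) [AddCommGroup H]
    [Module Γ(X, U) H] (e : Γ(M, U) ≃ₗ[Γ(X, U)] H) :
    letI := (X.presheaf.map (homOfLE h).op).hom.toAlgebra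
    Nonempty (Γ(X, V) ⊗[Γ(X, U)] H ≃ₗ[Γ(X, V)] Γ(M, V)) := by
  let _ := (X.presheaf.map (homOfLE h).op).hom.toAlgebra
  have h1 := isBC_mk (A := Γ(X, U)) (B := Γ(X, V)) (M := Γ(M, U))
    (φ := (X.presheaf.map (homOfLE h).op).hom) rfl
  obtain ⟨e', -⟩ := h1.exists_equiv (isBC_res M hM hU hV h)
  exact ⟨(e.symm.baseChange Γ(X, U) Γ(X, V) _ _).trans e'⟩

end Res

section Free

variable {X : Scheme.{u}}

theorem exists_open_free {M : X.Modules} {V : X.Opens} (h : FlatMod.IsFinLocFree (M.restrict V.ι))
    {s : X} (hs : s ∈ V) :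
    ∃ (U : X.Opens) (n : ℕ), s ∈ U ∧ U ≤ V ∧ Nonempty (M.restrict U.ι ≅ FlatMod.freeMod U n) := by
  obtain ⟨U', n, hU', ⟨e⟩⟩ := h ⟨s, hs⟩
  let j := U'.ι ≫ V.ι
  have e' : M.restrict j ≅ FlatMod.freeMod U' n :=
    (Dcoh.ResFree.restrictComp M U'.ι V.ι j rfl).symm ≪≫ e
  refine ⟨j.opensRange, n, ⟨⟨⟨s, hs⟩, hU'⟩, rfl⟩, ?_, ⟨?_⟩⟩
  · rintro _ ⟨x, rfl⟩
    exact x.1.2
  · have h1 : (j.isoOpensRange).inv ≫ j = j.opensRange.ι := by
      rw [Iso.inv_comp_eq]; simp
    exact (Dcoh.ResFree.restrictComp M (j.isoOpensRange).inv j _ h1).symm ≪≫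
      (Scheme.Modules.restrictFunctor (j.isoOpensRange).inv).mapIso e' ≪≫
      Dcoh.ResFree.restrictFreeMod _ _

theorem isFinLocFree_of_iso_freeMod {M : X.Modules} {n : ℕ} (e : Nonempty (M ≅ FlatMod.freeMod X n)) :
    FlatMod.IsFinLocFree M :=
  Dcoh.ResFree.isFinLocFree_of_iso e.some.symm (Dcoh.ResFree.isFinLocFree_freeMod n)

end Free

end K55.Aff
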