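import Groth.Agent.Coherent.K55.Aff2

/-!
# `R^p f_* F`, fibre ranks and the package
-/

set_option autoImplicit false

universe u

open CategoryTheory CategoryTheory.Limits AlgebraicGeometry Opposite TopologicalSpace TensorProduct

namespace K55.Aff

open Groth.Agent Groth.Agent.Ega3B K55.PackV K55.KerAlg Function

variable {X S : Scheme.{u}} {f : X ⟶ S} {F : X.Modules}

section Sections

variable [QuasiCompact f] [QuasiSeparated f] [HasInjectiveResolutions X.Modules]

/-- Sections of `R^p f_* F` over an affine open through the package. -/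
theorem exists_secEquiv (hF : Coh.IsQCoh F) {V : S.Opens} (hV : IsAffineOpen V)
    (K : CxData Γ(S, V)) (p : ℕ) (θ₀ : HV f F V p ≃+ K.H p)
    (hL : HX.Lin K (F.restrict (f ⁻¹ᵁ V).ι) p θ₀ (secRing f V)) :
    Nonempty (Γ((Coh.Rpush f p).obj F, V) ≃ₗ[Γ(S, V)] K.H p) := by
  obtain ⟨e, he⟩ := RpushAff.exists_equiv f F hF hV p
  let e' : Γ((Coh.Rpush f p).obj F, V) ≃+ HV f F V p := e.trans (HX.toHH _ p).symm
  have he' : ∀ (a : Γ(S, V)) (x : Γ((Coh.Rpush f p).obj F, V)),
      e' (a • x) = secRing f V a • e' x := fun a x => he a x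
  exact ⟨{ e'.trans θ₀ with
    map_smul' := fun a x => by
      change θ₀ (e' (a • x)) = a • θ₀ (e' x)
      rw [he', hL] }⟩

end Sections

section Fibre

variable {V : S.Opens} {hV : IsAffineOpen V} {K : CxData Γ(S, V)} {p : ℕ} {y : V}

theorem fiberRank_eq (h : FibAt f F hV K p y) :
    CohIII.fiberRank f F p y.1 = kr (K.u p) (hV.primeIdealOf y) := by
  obtain ⟨σ, θ, -, h2⟩ := h
  let i1 : Module (S.residueField y.1) (HX (f.fiber y.1) (CohIII.fiberMod f F y.1) p) :=
    Module.compHom _ (Coh.toGlobal (A := S.residueField y.1) (f.fiberToSpecResidueField y.1))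
  exact (FibreRank.finite_and_finrank σ (W := HX (f.fiber y.1) (CohIII.fiberMod f F y.1) p)
    (W' := K.HB p (hV.primeIdealOf y).asIdeal.ResidueField) θ h2).2

theorem subsingleton_iff (h : FibAt f F hV K p y) :
    Subsingleton (CohIII.fiberH f F y.1 p) ↔
      Subsingleton (LinearMap.ker ((K.u p).baseChange (hV.primeIdealOf y).asIdeal.ResidueField)) := by
  obtain ⟨σ, θ, -, -⟩ := h
  exact ((HX.toHH _ p).symm.trans θ).toEquiv.subsingleton_congr

end Fibre

end K55.Aff
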