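import Groth.Agent.Coherent.K55.Aff4
import Groth.Agent.Coherent.K56.Bridge55
import Groth.Agent.CohqA.AffineExt

/-!
# Cohomology and base change: the local statements

`isIso_bc_of_local`, `epi_fibre_iff`, `eq_zero_near`.
-/

set_option autoImplicit false

universe u

open CategoryTheory CategoryTheory.Limits AlgebraicGeometry Opposite TopologicalSpace TensorProduct

namespace K55.Core

open Groth.Agent Groth.Agent.Ega3B K55.PackV K55.KerAlg K55.Aff Function

section Zero

variable {S : Scheme.{u}} (M : S.Modules) (hM : Coh.IsQCoh M) {V : S.Opens} (hV : IsAffineOpen V)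

include hM in
/-- If the localization of `Γ(M, V)` at `y` vanishes, sections of `M` vanish near `y`. -/
theorem eq_zero_near (y : V)
    (hz : Subsingleton (Localization.AtPrime (hV.primeIdealOf y).asIdeal ⊗[Γ(S, V)] Γ(M, V)))
    (W : S.Opens) (hy : y.1 ∈ W) (t : Γ(M, W)) :
    ∃ (D : S.Opens) (hD : D ≤ W), y.1 ∈ D ∧ M.presheaf.map (homOfLE hD).op t = 0 := by
  have hMq : M.IsQuasicoherent := hM
  obtain ⟨r, hr, hyr⟩ := hV.exists_basicOpen_le ⟨y.1, hy⟩ y.2
  obtain ⟨k, n, hn⟩ := CohqA.AffineExt.exists_pow_smul_eq_map M hV r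
    (M.presheaf.map (homOfLE hr).op t)
  have h1 : TensorProduct.mk Γ(S, V) (Localization.AtPrime (hV.primeIdealOf y).asIdeal)
    Γ(M, V) 1 n = 0 := Subsingleton.elim _ _
  rw [IsLocalizedModule.eq_zero_iff (hV.primeIdealOf y).asIdeal.primeCompl] at h1
  obtain ⟨⟨a, ha⟩, han⟩ := h1
  have han' : a • n = 0 := han
  have hya : y.1 ∈ S.basicOpen a :=
    (Ega1.LocNoethNhd.mem_basicOpen_iff_notMem_primeIdealOf hV y a).2 ha
  let D : S.Opens := S.basicOpen r ⊓ S.basicOpen a
  have hDr : D ≤ S.basicOpen r := inf_le_left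
  have hDa : D ≤ S.basicOpen a := inf_le_right
  have hrV : S.basicOpen r ≤ V := S.basicOpen_le r
  have haV : S.basicOpen a ≤ V := S.basicOpen_le a
  refine ⟨D, hDr.trans hr, ⟨hyr, hya⟩, ?_⟩
  have u1 : IsUnit (S.presheaf.map (homOfLE (hDr.trans hrV)).op r) := by
    have h2 : IsUnit (S.presheaf.map (homOfLE hrV).op r) := RingedSpace.isUnit_res_basicOpen _ r
    have h3 := h2.map (S.presheaf.map (homOfLE hDr).op).hom
    have h4 : S.presheaf.map (homOfLE (hDr.trans hrV)).op =
      S.presheaf.map (homOfLE hrV).op ≫ S.presheaf.map (homOfLE hDr).op := by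
      rw [← Functor.map_comp]; rfl
    rw [h4]
    exact h3
  have u2 : IsUnit (S.presheaf.map (homOfLE (hDa.trans haV)).op a) := by
    have h2 : IsUnit (S.presheaf.map (homOfLE haV).op a) := RingedSpace.isUnit_res_basicOpen _ a
    have h3 := h2.map (S.presheaf.map (homOfLE hDa).op).hom
    have h4 : S.presheaf.map (homOfLE (hDa.trans haV)).op =
      S.presheaf.map (homOfLE haV).op ≫ S.presheaf.map (homOfLE hDa).op := by
      rw [← Functor.map_comp]; rfl
    rw [h4]
    exact h3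
  have h5 : M.presheaf.map (homOfLE (hDr.trans hrV)).op n = 0 := by
    have h6 : S.presheaf.map (homOfLE (hDr.trans hrV)).op a •
        M.presheaf.map (homOfLE (hDr.trans hrV)).op n = 0 := by
      refine (Scheme.Modules.map_smul M (homOfLE (hDr.trans hrV)) a n).symm.trans ?_
      rw [han']
      exact map_zero (M.presheaf.map (homOfLE (hDr.trans hrV)).op).hom
    exact (IsUnit.smul_eq_zero u2).1 h6
  have h7 := congrArg (M.presheaf.map (homOfLE hDr).op) hn
  have h8 : M.presheaf.map (homOfLE hDr).op (M.presheaf.map (homOfLE hrV).op n) =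
      M.presheaf.map (homOfLE (hDr.trans hrV)).op n := by
    rw [← ConcreteCategory.comp_apply, ← Functor.map_comp]; rfl
  have h9 : M.presheaf.map (homOfLE hDr).op (M.presheaf.map (homOfLE hr).op t) =
      M.presheaf.map (homOfLE (hDr.trans hr)).op t := by
    rw [← ConcreteCategory.comp_apply, ← Functor.map_comp]; rfl
  have h10 : S.presheaf.map (homOfLE hDr).op (S.presheaf.map (homOfLE hrV).op (r ^ k)) •
      M.presheaf.map (homOfLE hDr).op (M.presheaf.map (homOfLE hr).op t) = 0 := by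
    refine (Scheme.Modules.map_smul M (homOfLE hDr) _ _).symm.trans (h7.trans ?_)
    rw [h8, h5]
  rw [h9] at h10
  have h11 : IsUnit (S.presheaf.map (homOfLE hDr).op (S.presheaf.map (homOfLE hrV).op (r ^ k))) := by
    have h12 : S.presheaf.map (homOfLE hDr).op (S.presheaf.map (homOfLE hrV).op (r ^ k)) =
        (S.presheaf.map (homOfLE (hDr.trans hrV)).op r) ^ k := by
      rw [← ConcreteCategory.comp_apply, ← Functor.map_comp, map_pow]; rfl
    rw [h12]
    exact u1.pow k
  exact (IsUnit.smul_eq_zero h11).1 h10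

end Zero

section BC

variable {X S : Scheme.{u}} {f : X ⟶ S} {F : X.Modules} [QuasiCompact f] [QuasiSeparated f]
  [HasInjectiveResolutions X.Modules] {Δ : RDer.DerivedLES (Scheme.Modules.pushforward f)}
  {E : CohCmp.SectCmp f Δ}

theorem isIso_bc_of_local (hF : Coh.IsQCoh F) (p : ℕ) {X' S' : Scheme.{u}} {g' : X' ⟶ X}
    {f' : X' ⟶ S'} {g : S' ⟶ S} (h : IsPullback g' f' f g) [HasInjectiveResolutions X'.Modules]
    {Δ' : RDer.DerivedLES (Scheme.Modules.pushforward f')} {E' : CohCmp.SectCmp f' Δ'}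
    (B : CohCmp.GenBC f g f' g' h.w E E')
    (loc : ∀ z : S', ∃ (V : S.Opens) (hV : IsAffineOpen V) (K : CxData Γ(S, V))
      (θ₀ : HV f F V p ≃+ K.H p) (_ : ComputesV f F hV K p θ₀) (r : Γ(S, V)),
      g z ∈ S.basicOpen r ∧ ∀ x ∈ PrimeSpectrum.basicOpen r,
        x ∈ Module.freeLocus Γ(S, V) (K.O (p + 1))) : IsIso (B.bc p F) := by
  have i1 : QuasiCompact f' := MorphismProperty.of_isPullback h inferInstance
  have i2 : QuasiSeparated f' := MorphismProperty.of_isPullback h inferInstance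
  refine K56.Bridge.isIso_bc F B hF p fun z => ?_
  obtain ⟨V, hV, K, θ₀, hK, r, hz, hr⟩ := loc z
  obtain ⟨_, ⟨W, hW, rfl⟩, hzW, hWr⟩ := S'.isBasis_affineOpens.exists_subset_of_mem_open
    (show z ∈ (g ⁻¹ᵁ S.basicOpen r : Set S') from hz) (g ⁻¹ᵁ S.basicOpen r).2
  have hWr' : W ≤ g ⁻¹ᵁ S.basicOpen r := hWr
  have hWV : W ≤ g ⁻¹ᵁ V := hWr'.trans (g.preimage_mono (S.basicOpen_le r))
  have hle : f' ⁻¹ᵁ W ≤ g' ⁻¹ᵁ (f ⁻¹ᵁ V) :=
    (f'.preimage_mono hWV).trans (CohCmp.sqLE f g f' g' h.w V)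
  exact ⟨V, W, hV, hW, hWV, hle, hzW, isBCOn_of_freeLocus hK r hr g' f' g h W hW hWV hWr' hle⟩

theorem epi_fibre_iff (hF : Coh.IsQCoh F) (p : ℕ) (s : S)
    [HasInjectiveResolutions (f.fiber s).Modules]
    {Δs : RDer.DerivedLES (Scheme.Modules.pushforward (f.fiberToSpecResidueField s))}
    {Es : CohCmp.SectCmp (f.fiberToSpecResidueField s) Δs}
    (Bs : CohCmp.GenBC f (S.fromSpecResidueField s) (f.fiberToSpecResidueField s) (f.fiberι s)
      (f.fiber_fac s) E Es) {V : S.Opens} (hV : IsAffineOpen V) (hs : s ∈ V) (K : CxData Γ(S, V))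
    (θ₀ : HV f F V p ≃+ K.H p) (hK : ComputesV f F hV K p θ₀) :
    Epi (Bs.bc p F) ↔ hV.primeIdealOf ⟨s, hs⟩ ∈ Module.freeLocus Γ(S, V) (K.O (p + 1)) := by
  have h : IsPullback (f.fiberι s) (f.fiberToSpecResidueField s) f (S.fromSpecResidueField s) :=
    isPullback_fibre s
  have i1 : QuasiCompact (f.fiberToSpecResidueField s) := MorphismProperty.of_isPullback h inferInstance
  have i2 : QuasiSeparated (f.fiberToSpecResidueField s) :=
    MorphismProperty.of_isPullback h inferInstance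
  have hWV : (⊤ : (Spec (S.residueField s)).Opens) ≤ (S.fromSpecResidueField s) ⁻¹ᵁ V :=
    Ega4late.H534.FibApp.top_le hs
  have hle : (f.fiberToSpecResidueField s) ⁻¹ᵁ ⊤ ≤ (f.fiberι s) ⁻¹ᵁ (f ⁻¹ᵁ V) :=
    ((f.fiberToSpecResidueField s).preimage_mono hWV).trans
      (CohCmp.sqLE f _ _ _ (f.fiber_fac s) V)
  have h3 := genOn_fibre_iff (f := f) (F := F) hV K p θ₀ hK ⟨s, hs⟩ hle
  rw [← h3]
  constructor
  · intro hepi
    exact K56.Bridge.span_of_epi F Bs hF p hepi hV (isAffineOpen_top _) hWV hle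
  · intro hgen
    exact K56.Bridge.epi_bc F Bs hF p fun z => ⟨V, ⊤, hV, isAffineOpen_top _, hWV, hle, trivial, hgen⟩

end BC

end K55.Core
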