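import Groth.Agent.Coherent.K55.Core

/-!
# Finite local freeness and local constancy near a point
-/

set_option autoImplicit false

universe u

open CategoryTheory CategoryTheory.Limits AlgebraicGeometry Opposite TopologicalSpace TensorProduct

namespace K55.Core

open Groth.Agent Groth.Agent.Ega3B K55.PackV K55.KerAlg K55.Aff Function

variable {X S : Scheme.{u}} {f : X ⟶ S} {F : X.Modules} [QuasiCompact f] [QuasiSeparated f]
  [HasInjectiveResolutions X.Modules] {V : S.Opens} {hV : IsAffineOpen V}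
  {K : CxData Γ(S, V)} {p : ℕ} {θ₀ : HV f F V p ≃+ K.H p}

theorem exists_flf_nhd (hF : Coh.IsQCoh F) (hK : ComputesV f F hV K p θ₀) (y : V)
    (h1 : hV.primeIdealOf y ∈ Module.freeLocus Γ(S, V) (K.O p))
    (h2 : hV.primeIdealOf y ∈ Module.freeLocus Γ(S, V) (K.O (p + 1))) :
    ∃ U : S.Opens, y.1 ∈ U ∧ FlatMod.IsFinLocFree (((Coh.Rpush f p).obj F).restrict U.ι) ∧
        IsLocallyConstant (fun v : U => CohIII.fiberRank f F p v.1) := by
  have e1 := Module.isOpen_freeLocus.mem_nhds h1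
  have e2 := Module.isOpen_freeLocus.mem_nhds h2
  have e3 := eventually_kr_eq (K.exact p) (K.surj p) (hV.primeIdealOf y) h1 h2
  obtain ⟨r, hr, h5, h6⟩ := exists_basicOpen_of_eventually hV y
    (Filter.Eventually.and e1 (Filter.Eventually.and e2 e3))
  obtain ⟨U, hsU, hUr, hU⟩ := isFinLocFree_core hF hK y r hr
    (fun x hx => (h5 x hx).2.1) (fun x hx => (h5 x hx).1)
  refine ⟨U, hsU, hU, ?_⟩
  have h7 : ∀ v : U, CohIII.fiberRank f F p v.1 = kr (K.u p) (hV.primeIdealOf y) := fun v =>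
    (fiberRank_eq (hK.2.2 ⟨v.1, S.basicOpen_le r (hUr v.2)⟩)).trans
      (h6 v.1 (S.basicOpen_le r (hUr v.2)) (hUr v.2)).2.2
  exact (funext h7 : (fun v : U => CohIII.fiberRank f F p v.1) = fun _ => _) ▸
    IsLocallyConstant.const _

/-- The equivalence of the local freeness theorem, in terms of the package. -/
theorem flf_iff (hF : Coh.IsQCoh F) (hK : ComputesV f F hV K p θ₀) (y : V)
    (h2 : hV.primeIdealOf y ∈ Module.freeLocus Γ(S, V) (K.O (p + 1))) :
    hV.primeIdealOf y ∈ Module.freeLocus Γ(S, V) (K.O p) ↔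
      ∃ U : S.Opens, y.1 ∈ U ∧ FlatMod.IsFinLocFree (((Coh.Rpush f p).obj F).restrict U.ι) := by
  constructor
  · intro h1
    obtain ⟨U, hy, hU, -⟩ := exists_flf_nhd hF hK y h1 h2
    exact ⟨U, hy, hU⟩
  · rintro ⟨U, hy, hU⟩
    exact (mem_freeLocus_ker_iff (K.exact p) (K.surj p) (hV.primeIdealOf y) h2).1
      (mem_freeLocus_of_isFinLocFree hF hK y U hy hU)

end K55.Core
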