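import Groth.Agent.Coherent.K55.TKer
import Groth.Agent.Ega3A.LocalT

/-!
# The linear algebra data computing the cohomology of a flat family

`CxData A`: modules `O p` (finitely presented), `Q p` (finite projective), exact sequences
`O p --u--> Q p --π--> O (p+1) → 0`, with `O 0` projective and everything zero for large `p`.
`K.H p = ker u` is `H^p`, `K.HB p B = ker u_B` its value on an `A`-algebra `B`.
`ofComplex`: from a bounded complex of finite projective modules.
-/

set_option autoImplicit false

universe u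

open CategoryTheory CategoryTheory.Limits TensorProduct

namespace K55

/-- Linear algebra data computing the cohomology of a flat family over `A`. -/
structure CxData (A : Type u) [CommRing A] where
  /-- `opcycles` -/
  O : ℕ → ModuleCat.{u} A
  /-- the next term of the complex -/
  Q : ℕ → ModuleCat.{u} A
  /-- the map induced by the differential -/
  u : ∀ p, O p →ₗ[A] Q p
  /-- the projection -/
  π : ∀ p, Q p →ₗ[A] O (p + 1)
  exact : ∀ p, Function.Exact (u p) (π p)
  surj : ∀ p, Function.Surjective (π p)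
  fpO : ∀ p, Module.FinitePresentation A (O p)
  finQ : ∀ p, Module.Finite A (Q p)
  projQ : ∀ p, Module.Projective A (Q p)
  projO : Module.Projective A (O 0)
  bound : ∃ N : ℕ, ∀ p, N ≤ p → Subsingleton (O p)

namespace CxData

variable {A : Type u} [CommRing A] (K : CxData A)

attribute [instance] CxData.fpO CxData.finQ CxData.projQ

/-- `H^p`. -/
abbrev H (p : ℕ) : Submodule A (K.O p) := LinearMap.ker (K.u p)

/-- `H^p` after base change to `B`. -/
noncomputable abbrev HB (p : ℕ) (B : Type u) [CommRing B] [Algebra A B] :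
    Submodule B (B ⊗[A] (K.O p)) := LinearMap.ker ((K.u p).baseChange B)

/-- `H^p → H^p_B`. -/
noncomputable abbrev res (p : ℕ) (B : Type u) [CommRing B] [Algebra A B] : K.H p →ₗ[A] K.HB p B :=
  KerAlg.kres (K.u p) B

end CxData

open Groth.Agent.Ega3A.TFunBasic

/-- The data attached to a bounded complex of finite projective modules. -/
theorem exists_cxData {A : Type u} [CommRing A] (P : ChainComplex (ModuleCat.{u} A) ℤ)
    (hP : ∀ i, Module.Finite A (P.X i) ∧ Module.Projective A (P.X i))
    (hb : ∃ b : ℤ, ∀ i, (i < b ∨ 0 < i) → IsZero (P.X i)) :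
    ∃ K : CxData A, ∀ p : ℕ,
      ∃ κ₀ : (CohIII.TFun P (-(p : ℤ))).obj (ModuleCat.of A A) ≃+ K.H p,
        (∀ (a : A) (x : (CohIII.TFun P (-(p : ℤ))).obj (ModuleCat.of A A)),
          κ₀ (((CohIII.TFun P (-(p : ℤ))).map (ModuleCat.ofHom (LinearMap.mulLeft A a))).hom x) =
            a • κ₀ x) ∧
        ∀ (B : Type u) [CommRing B] [Algebra A B],
          ∃ κ : (CohIII.TFun P (-(p : ℤ))).obj (ModuleCat.of A B) ≃+ K.HB p B,
            (∀ (b : B) (x : (CohIII.TFun P (-(p : ℤ))).obj (ModuleCat.of A B)),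
              κ (((CohIII.TFun P (-(p : ℤ))).map (ModuleCat.ofHom (LinearMap.mulLeft A b))).hom x) =
                b • κ x) ∧
            ∀ x : (CohIII.TFun P (-(p : ℤ))).obj (ModuleCat.of A A),
              κ (((CohIII.TFun P (-(p : ℤ))).map
                (ModuleCat.ofHom (Algebra.linearMap A B))).hom x) = K.res p B (κ₀ x) := by
  have hrel : ∀ p : ℕ, (ComplexShape.down ℤ).Rel (-(p : ℤ)) (-((p + 1 : ℕ) : ℤ)) := fun p => by
    simp
  have hnext : ∀ p : ℕ, (ComplexShape.down ℤ).next (-(p : ℤ)) = -((p + 1 : ℕ) : ℤ) := fun p =>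
    (ComplexShape.down ℤ).next_eq' (hrel p)
  have hfp : ∀ i, Module.FinitePresentation A (P.X i) := fun i => by
    have := (hP i).1
    have := (hP i).2
    exact Module.finitePresentation_of_projective A (P.X i)
  have hfpO : ∀ i, Module.FinitePresentation A (P.opcycles i) := by
    intro i
    have hr : (ComplexShape.down ℤ).Rel (i + 1) i := by simp
    have h1 := Groth.Agent.Ega3A.LocalT.exact_fromOpcycles_pOpcycles P hr
    have h2 := Groth.Agent.Ega3A.LocalT.pOpcycles_surjective P i
    have := (hP (i + 1)).1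
    have := (hP i).1
    have := (hP i).2
    have hfin : Module.Finite A (P.opcycles (i + 1)) :=
      Groth.Agent.Ega3A.LocalT.finite_opcycles P (i + 1)
    have := hfp i
    refine Module.finitePresentation_of_surjective (P.pOpcycles i).hom h2 ?_
    rw [h1.linearMap_ker_eq, LinearMap.range_eq_map]
    exact Module.Finite.fg_top.map _
  obtain ⟨b, hb⟩ := hb
  refine ⟨
    { O := fun p => P.opcycles (-(p : ℤ))
      Q := fun p => P.X (-((p + 1 : ℕ) : ℤ))
      u := fun p => (P.fromOpcycles (-(p : ℤ)) (-((p + 1 : ℕ) : ℤ))).hom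
      π := fun p => (P.pOpcycles (-((p + 1 : ℕ) : ℤ))).hom
      exact := fun p => Groth.Agent.Ega3A.LocalT.exact_fromOpcycles_pOpcycles P (hrel p)
      surj := fun p => Groth.Agent.Ega3A.LocalT.pOpcycles_surjective P _
      fpO := fun p => hfpO _
      finQ := fun p => (hP _).1
      projQ := fun p => (hP _).2
      projO := ?_
      bound := ?_ }, fun p => ?_⟩
  · have h0 : IsIso (P.pOpcycles (-((0 : ℕ) : ℤ))) := by
      have hz : P.d 1 (-((0 : ℕ) : ℤ)) = 0 := (hb 1 (Or.inr one_pos)).eq_of_src _ _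
      exact P.isIso_pOpcycles 1 (-((0 : ℕ) : ℤ))
        ((ComplexShape.down ℤ).prev_eq' (by simp)) hz
    have := (hP (-((0 : ℕ) : ℤ))).2
    exact Module.Projective.of_equiv (asIso (P.pOpcycles (-((0 : ℕ) : ℤ)))).toLinearEquiv
  · refine ⟨(-b).toNat + 1, fun p hp => ?_⟩
    have h1 : IsZero (P.X (-(p : ℤ))) := hb _ (Or.inl (by omega))
    have h2 : Subsingleton (P.X (-(p : ℤ))) := ModuleCat.subsingleton_of_isZero h1
    exact (Groth.Agent.Ega3A.LocalT.pOpcycles_surjective P (-(p : ℤ))).subsingleton
  · refine ⟨TKer.kap0 P (-(p : ℤ)) (-((p + 1 : ℕ) : ℤ)) (hnext p), fun a x =>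
      TKer.kap0_mul P _ _ (hnext p) a x, fun B _ _ => ⟨TKer.kapB P (-(p : ℤ)) (-((p + 1 : ℕ) : ℤ))
        (hnext p) B, fun b x => TKer.kapB_mul P _ _ (hnext p) B b x, fun x =>
          TKer.kapB_alg P _ _ (hnext p) B x⟩⟩

end K55
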