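import Groth.Agent.Coherent.K56.PMap
import Groth.Agent.Ega3B.LeraySheaf

/-!
# Degenerate Leray for the maps `K56.PMap.pm`

`isIso_oneTo`: the canonical map `ℤ_X ⟶ f⁻¹ ℤ_Y` is an isomorphism.
`pm_push_bijective`: `pm f (𝟙 (f_* G)) n : H^n(Y, f_* G) → H^n(X, G)` is bijective if `G` is acyclic on
the preimages of a basis of `Y`.
-/

set_option autoImplicit false

universe u

open CategoryTheory CategoryTheory.Limits CategoryTheory.Abelian TopologicalSpace Opposite

namespace K55.Leray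

open Groth.Agent.Ega3B

variable {X Y : TopCat.{u}}

theorem adjZ_homEquiv {M : CohTop.Ab X} (a : CohTop.const X (ULift.{u} ℤ) ⟶ M) :
    (CohPull.adjZ X).homEquiv _ _ a = CohPull.oneSec X ≫ a.hom.app (op ⊤) := by
  have h := Adjunction.homEquiv_naturality_right (CohPull.adjZ X)
    (𝟙 (CohTop.const X (ULift.{u} ℤ))) a
  rw [Category.id_comp] at h
  exact h

theorem oneTo_top (f : X ⟶ Y) : CohPull.oneSec X ≫ (CohPull.oneTo f).hom.app (op ⊤) =
    CohPull.oneSec Y ≫ ((CohPull.invPushAdj f).unit.app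
      (CohTop.const Y (ULift.{u} ℤ))).hom.app (op ⊤) := by
  rw [← adjZ_homEquiv]
  exact Equiv.apply_symm_apply _ _

theorem adjZ_oneTo (f : X ⟶ Y) {M : CohTop.Ab X}
    (a : (CohPull.inv f).obj (CohTop.const Y (ULift.{u} ℤ)) ⟶ M) :
    (CohPull.adjZ X).homEquiv _ _ (CohPull.oneTo f ≫ a) =
      (CohPull.adjZ Y).homEquiv _ _ ((CohPull.invPushAdj f).homEquiv _ _ a) := by
  rw [adjZ_homEquiv, adjZ_homEquiv, Adjunction.homEquiv_unit]
  have h := congrArg (fun t => t ≫ a.hom.app (op ⊤)) (oneTo_top f)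
  exact h

/-- The canonical map `ℤ_X ⟶ f⁻¹ ℤ_Y` is an isomorphism. -/
theorem isIso_oneTo (f : X ⟶ Y) : IsIso (CohPull.oneTo f) := by
  refine isIso_of_coyoneda_map_bijective (CohPull.oneTo f) fun M => ?_
  have h : (fun (a : (CohPull.inv f).obj (CohTop.const Y (ULift.{u} ℤ)) ⟶ M) => CohPull.oneTo f ≫ a) =
      ((CohPull.adjZ X).homEquiv _ _).symm ∘ ((CohPull.adjZ Y).homEquiv _ _) ∘
        ((CohPull.invPushAdj f).homEquiv _ _) := by
    funext a
    apply ((CohPull.adjZ X).homEquiv _ _).injective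
    rw [adjZ_oneTo]
    exact (Equiv.apply_symm_apply _ _).symm
  rw [h]
  exact ((CohPull.adjZ X).homEquiv _ _).symm.bijective.comp
    (((CohPull.adjZ Y).homEquiv _ _).bijective.comp ((CohPull.invPushAdj f).homEquiv _ _).bijective)

/-- `pm f (𝟙 (f_* G))` is bijective if `G` is acyclic on the preimages of a basis of `Y`. -/
theorem pm_push_bijective (f : X ⟶ Y) (B : Set (Opens Y)) (hB : Opens.IsBasis B) (G : CohTop.Ab X)
    (hG : LeraySheaf.Acyc f B G) (n : ℕ) :
    Function.Bijective (K56.PMap.pm f (G := (CohTop.push f).obj G) (𝟙 ((CohTop.push f).obj G)) n) := by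
  have h1 := LeraySheaf.φ_bij f B hB G hG (CohTop.const Y (ULift.{u} ℤ)) n
  have hi := isIso_oneTo f
  have h2 : Function.Bijective (fun (x : Abelian.Ext ((CohPull.inv f).obj (CohTop.const Y (ULift.{u} ℤ))) G n) =>
      (Abelian.Ext.mk₀ (CohPull.oneTo f)).comp x (zero_add n)) := by
    refine Function.bijective_iff_has_inverse.mpr
      ⟨fun x => (Abelian.Ext.mk₀ (inv (CohPull.oneTo f))).comp x (zero_add n), fun x => ?_, fun x => ?_⟩
    · beta_reduce
      rw [Ext.mk₀_comp_mk₀_assoc, IsIso.inv_hom_id, Ext.mk₀_id_comp]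
    · beta_reduce
      rw [Ext.mk₀_comp_mk₀_assoc, IsIso.hom_inv_id, Ext.mk₀_id_comp]
  have h3 := h2.comp h1
  refine (congrArg Function.Bijective (funext fun x => ?_)).mp h3
  refine Eq.trans ?_ (K56.PMap.pm_apply f _ n x).symm
  have h4 : K56.PMap.tr f (𝟙 ((CohTop.push f).obj G)) = (CohPull.invPushAdj f).counit.app G :=
    Adjunction.homEquiv_symm_id _ _
  rw [h4]
  rfl

/-- `pm f i.hom` is bijective for an isomorphism `i : T ≅ f_* G` if `G` is acyclic on the preimages
of a basis of `Y`. -/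
theorem pm_iso_bijective (f : X ⟶ Y) (B : Set (Opens Y)) (hB : Opens.IsBasis B) (G : CohTop.Ab X)
    (hG : LeraySheaf.Acyc f B G) (T : CohTop.Ab Y) (i : T ≅ (CohTop.push f).obj G) (n : ℕ) :
    Function.Bijective (K56.PMap.pm f (G := T) (H := G) i.hom n) := by
  have h2 : Function.Bijective (Sheaf.H.map i.hom n) := by
    refine Function.bijective_iff_has_inverse.mpr ⟨Sheaf.H.map i.inv n, fun x => ?_, fun x => ?_⟩
    · rw [← Sheaf.H.map_comp_apply, Iso.hom_inv_id, Sheaf.H.map_id_apply]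
    · rw [← Sheaf.H.map_comp_apply, Iso.inv_hom_id, Sheaf.H.map_id_apply]
  have h3 := (pm_push_bijective f B hB G hG n).comp h2
  refine (congrArg Function.Bijective (funext fun x => ?_)).mp h3
  refine (K56.PMap.pm_map_left f i.hom (𝟙 ((CohTop.push f).obj G)) n x).symm.trans ?_
  exact congrArg (fun t => K56.PMap.pm f (G := T) (H := G) t n x) (Category.comp_id i.hom)

end K55.Leray
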