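import Groth.Agent.Coherent.K55.CxData
import Groth.Agent.Coherent.K55.PackMap
import Groth.Agent.Models2.GenCx

/-!
# The package: cohomology of a proper flat family over an arbitrary affine base, with maps
-/

set_option autoImplicit false

universe u

open CategoryTheory CategoryTheory.Limits AlgebraicGeometry Opposite TopologicalSpace TensorProduct

namespace K55.Pack

open Groth.Agent.Ega3B Groth.Agent.Ega3B.FibreIso Groth.Agent K55.PackMap

variable {A : Type u} [CommRing A] {X : Scheme.{u}} [X.Over (Spec (CommRingCat.of A))]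

/-- What it means for `K` to compute the cohomology of `F` in all base changes. -/
structure Computes (K : CxData A) (F : X.Modules) (p : ℕ) (θ₀ : Coh.HH X F p ≃+ K.H p) : Prop where
  smul : ∀ (a : A) (x : Coh.HH X F p),
    θ₀ (Coh.toGlobal (X ↘ Spec (CommRingCat.of A)) a • x) = a • θ₀ x
  bc : ∀ (B : Type u) [CommRing B] [Algebra A B] (X' : Scheme.{u}) (j : X' ⟶ X)
    (q : X' ⟶ Spec (CommRingCat.of B)) (_ : IsPullback j q (X ↘ Spec (CommRingCat.of A))
      (Spec.map (CommRingCat.ofHom (algebraMap A B)))),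
    ∃ θ : Coh.HH X' ((Scheme.Modules.pullback j).obj F) p ≃+ K.HB p B,
      (∀ (b : B) (x : Coh.HH X' ((Scheme.Modules.pullback j).obj F) p),
        θ (Coh.toGlobal q b • x) = b • θ x) ∧
      ∀ x : Coh.HH X F p, θ (CohPull.pullMod j F p x) = K.res p B (θ₀ x)

/-- **The package.** -/
theorem exists_pack (X : Scheme.{u}) [X.Over (Spec (CommRingCat.of A))]
    [IsProper (X ↘ Spec (CommRingCat.of A))]
    [LocallyOfFinitePresentation (X ↘ Spec (CommRingCat.of A))] (F : X.Modules) (hF : CohB1.IsFP F)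
    (hfl : FlatMod.IsFlatOver (X ↘ Spec (CommRingCat.of A)) F) :
    ∃ K : CxData A, ∀ p : ℕ, ∃ θ₀ : Coh.HH X F p ≃+ K.H p, Computes K F p θ₀ := by
  obtain ⟨P, hP, hb, hT, -⟩ := Models2.GenCx.exists_complex X F hF hfl
  have hq : Coh.IsQCoh F := Models2.FPCoh.isQCoh_of_isFP hF
  obtain ⟨K, hK⟩ := exists_cxData P hP hb
  refine ⟨K, fun p => ?_⟩
  obtain ⟨E⟩ := hT p
  obtain ⟨κ₀, hκ₀, hκ⟩ := hK p
  have hnat : ∀ {M N : ModuleCat.{u} A} (g : M ⟶ N)
      (y : (CohIII.tensorAFunctor A F ⋙ CohIII.HAb X p).obj M),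
      (E.hom.app N).hom (((CohIII.tensorAFunctor A F ⋙ CohIII.HAb X p).map g).hom y) =
        ((CohIII.TFun P (-(p : ℤ))).map g).hom ((E.hom.app M).hom y) := fun g y =>
    congr($(E.hom.naturality g) y)
  let e : ∀ M : ModuleCat.{u} A, (CohIII.tensorAFunctor A F ⋙ CohIII.HAb X p).obj M ≃+
      (CohIII.TFun P (-(p : ℤ))).obj M := fun M => (E.app M).addCommGroupIsoToAddEquiv
  have he : ∀ (M : ModuleCat.{u} A) (y : (CohIII.tensorAFunctor A F ⋙ CohIII.HAb X p).obj M),
      e M y = (E.hom.app M).hom y := fun M y => rfl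
  refine ⟨(theta0 A F hq p).trans ((e _).trans κ₀), ⟨fun a x => ?_, fun B _ _ X' j q H => ?_⟩⟩
  · change κ₀ (e _ (theta0 A F hq p (Coh.toGlobal (X ↘ Spec (CommRingCat.of A)) a • x))) =
      a • κ₀ (e _ (theta0 A F hq p x))
    rw [theta0_smul, he, hnat, ← hκ₀]
    rfl
  · obtain ⟨κ, hκ1, hκ2⟩ := hκ B
    refine ⟨(thetaB j q H F hq p).trans ((e _).trans κ), fun b x => ?_, fun x => ?_⟩
    · change κ (e _ (thetaB j q H F hq p (Coh.toGlobal q b • x))) =
        b • κ (e _ (thetaB j q H F hq p x))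
      rw [thetaB_smul, he, hnat, ← hκ1]
      rfl
    · change κ (e _ (thetaB j q H F hq p (CohPull.pullMod j F p x))) =
        K.res p B (κ₀ (e _ (theta0 A F hq p x)))
      rw [thetaB_pullMod, he, hnat, ← hκ2]
      rfl

end K55.Pack
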