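import Groth.Agent.Coherent.K55.HX
import Groth.Agent.Coherent.K55.PackV0
import Groth.Agent.Flat2F.R1NakB
import Groth.Agent.Ega3B.FibreResid
import Groth.Agent.PerfC.FPSections

/-!
# The package over affine opens of an arbitrary base

`exists_packV`: `f : X ⟶ S` proper, locally of finite presentation, `F` finitely presented and flat over
`S`, `V` an affine open of `S`: a `CxData` `K` over `Γ(S, V)` computing `H^p(f⁻¹V, F)`, and
`H^p(f'⁻¹W, g'^* F)` for every cartesian square and affine `W ≤ g⁻¹V`, and `H^p(X_y, F_y)`, `y ∈ V`.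
-/

set_option autoImplicit false

universe u


open CategoryTheory CategoryTheory.Limits AlgebraicGeometry Opposite TopologicalSpace TensorProduct

namespace K55.PackV

open Groth.Agent.Ega3B Groth.Agent

variable {X S : Scheme.{u}} (f : X ⟶ S) (F : X.Modules)

/-- `H^p(f⁻¹V, F)`. -/
abbrev HV (V : S.Opens) (p : ℕ) : Type u := HX (f ⁻¹ᵁ V).toScheme (F.restrict (f ⁻¹ᵁ V).ι) p

section Defs

variable {V : S.Opens} (hV : IsAffineOpen V) (K : CxData Γ(S, V)) (p : ℕ)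
    (θ₀ : HV f F V p ≃+ K.H p)

/-- `K` computes `H^p` over `W`, the map being the evident one. -/
def BCat {S' X' : Scheme.{u}} (g' : X' ⟶ X) (f' : X' ⟶ S') (W : S'.Opens)
    (hle : f' ⁻¹ᵁ W ≤ g' ⁻¹ᵁ (f ⁻¹ᵁ V)) [Algebra Γ(S, V) Γ(S', W)] : Prop :=
  ∃ θ : HV f' ((Scheme.Modules.pullback g').obj F) W p ≃+ K.HB p Γ(S', W),
    (∀ (b : Γ(S', W)) (x : HV f' ((Scheme.Modules.pullback g').obj F) W p),
      θ (secRing f' W b • x) = b • θ x) ∧
    ∀ x : HV f F V p,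
      θ (HX.pullOn g' (f ⁻¹ᵁ V) (f' ⁻¹ᵁ W) hle F p x) = K.res p Γ(S', W) (θ₀ x)

/-- `K` computes the cohomology of the fibre. -/
def FibAt (y : V) : Prop :=
  ∃ (σ : S.residueField y.1 ≃+* (hV.primeIdealOf y).asIdeal.ResidueField)
    (θ : HX (f.fiber y.1) (CohIII.fiberMod f F y.1) p ≃+
      K.HB p (hV.primeIdealOf y).asIdeal.ResidueField),
    (∀ a : Γ(S, V), σ ((S.evaluation V y.1 y.2).hom a) = algebraMap _ _ a) ∧
    ∀ (r : S.residueField y.1) (x : HX (f.fiber y.1) (CohIII.fiberMod f F y.1) p),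
      θ (Coh.toGlobal (A := S.residueField y.1) (f.fiberToSpecResidueField y.1) r • x) = σ r • θ x

/-- `K` computes the cohomology of `F` over `V` and after every base change. -/
def ComputesV : Prop :=
  HX.Lin K (F.restrict (f ⁻¹ᵁ V).ι) p θ₀ (secRing f V) ∧
  (∀ ⦃S' X' : Scheme.{u}⦄ (g' : X' ⟶ X) (f' : X' ⟶ S') (g : S' ⟶ S)
    (_ : IsPullback g' f' f g) (W : S'.Opens) (_ : IsAffineOpen W) (hWV : W ≤ g ⁻¹ᵁ V)
    (hle : f' ⁻¹ᵁ W ≤ g' ⁻¹ᵁ (f ⁻¹ᵁ V)),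
    letI := (g.appLE V W hWV).hom.toAlgebra
    BCat f F K p θ₀ g' f' W hle) ∧
  (∀ y : V, FibAt f F hV K p y)

end Defs

section Steps

variable {V : S.Opens} (hV : IsAffineOpen V)

theorem toGlobal_strMap_eq : Coh.toGlobal (PackageAsm.strMap f hV) = secRing f V :=
  RingHom.ext fun a => toGlobal_strMap f hV a

theorem bcW (K : CxData Γ(S, V)) (p : ℕ) (θ₀ : HV f F V p ≃+ K.H p)
    {S' X' : Scheme.{u}} (g' : X' ⟶ X) (f' : X' ⟶ S')
    (W : S'.Opens) (hW : IsAffineOpen W)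
    (hle : f' ⁻¹ᵁ W ≤ g' ⁻¹ᵁ (f ⁻¹ᵁ V)) [Algebra Γ(S, V) Γ(S', W)]
    (h : HX.BC K (F.restrict (f ⁻¹ᵁ V).ι) p θ₀ Γ(S', W) (g'.resLE (f ⁻¹ᵁ V) (f' ⁻¹ᵁ W) hle)
      (Coh.toGlobal (PackageAsm.strMap f' hW))) :
    BCat f F K p θ₀ g' f' W hle := by
  rw [toGlobal_strMap_eq] at h
  obtain ⟨θ, h3, h4⟩ := h
  refine ⟨(HX.iso (CohPull.pullOnIso g' (f ⁻¹ᵁ V) (f' ⁻¹ᵁ W) hle F) p).symm.trans θ,
    fun b x => ?_, fun x => ?_⟩
  · rw [AddEquiv.trans_apply, AddEquiv.trans_apply, HX.iso_symm_smul, h3]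
  · rw [HX.pullOn_apply, AddEquiv.trans_apply, AddEquiv.symm_apply_apply, h4]

theorem exists_square_fibre (y : V) :
    ∃ (g : f.fiber y.1 ⟶ (f ⁻¹ᵁ V).toScheme)
      (q : f.fiber y.1 ⟶ Spec (CommRingCat.of (hV.primeIdealOf y).asIdeal.ResidueField))
      (σ : S.residueField y.1 ≃+* (hV.primeIdealOf y).asIdeal.ResidueField),
      g ≫ (f ⁻¹ᵁ V).ι = f.fiberι y.1 ∧
      (∀ a : Γ(S, V), σ ((S.evaluation V y.1 y.2).hom a) = algebraMap _ _ a) ∧
      IsPullback g q (PackageAsm.strMap f hV) (Spec.map (CommRingCat.ofHom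
          (algebraMap Γ(S, V) (hV.primeIdealOf y).asIdeal.ResidueField))) ∧
      ∀ r : S.residueField y.1, Coh.toGlobal q (σ r) =
        Coh.toGlobal (A := S.residueField y.1) (f.fiberToSpecResidueField y.1) r := by
  obtain ⟨g, hg, H⟩ := EtPoint.exists_square_residueField f hV y
  obtain ⟨σ, hσ⟩ := FibreRank.exists_sigma hV y
  let e : S.residueField y.1 ≅ CommRingCat.of (hV.primeIdealOf y).asIdeal.ResidueField :=
    σ.toCommRingCatIso
  have he : S.evaluation V y.1 y.2 ≫ e.hom = CommRingCat.ofHom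
      (algebraMap Γ(S, V) (hV.primeIdealOf y).asIdeal.ResidueField) := by
    ext a
    exact hσ a
  have H' : IsPullback g (f.fiberToSpecResidueField y.1 ≫ Spec.map e.inv)
      (PackageAsm.strMap f hV) (Spec.map (CommRingCat.ofHom
        (algebraMap Γ(S, V) (hV.primeIdealOf y).asIdeal.ResidueField))) := by
    refine IsPullback.of_iso H (Iso.refl _) (Iso.refl _) (Scheme.Spec.mapIso e.symm.op)
      (Iso.refl _) ?_ ?_ ?_ ?_
    · simp
    · simp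
      rfl
    · simp
    · rw [← he, Iso.refl_hom, Category.comp_id, Spec.map_comp]
      change _ = Spec.map e.inv ≫ _
      rw [← Category.assoc, ← Spec.map_comp, e.hom_inv_id, Spec.map_id, Category.id_comp]
  refine ⟨g, _, σ, hg, hσ, H', fun r => ?_⟩
  refine (Flat2F.R1NakB.toGlobal_comp (A := (hV.primeIdealOf y).asIdeal.ResidueField)
    (B := S.residueField y.1) (e.inv.hom) (f.fiberToSpecResidueField y.1) (σ r)).trans ?_
  change Coh.toGlobal (A := S.residueField y.1) (f.fiberToSpecResidueField y.1) (σ.symm (σ r)) = _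
  rw [RingEquiv.symm_apply_apply]

theorem fibAt_of (K : CxData Γ(S, V)) (p : ℕ) (θ₀ : HV f F V p ≃+ K.H p) (y : V)
    (h : ∀ (j : f.fiber y.1 ⟶ (f ⁻¹ᵁ V).toScheme)
        (q : f.fiber y.1 ⟶ Spec (CommRingCat.of (hV.primeIdealOf y).asIdeal.ResidueField))
        (_ : IsPullback j q (PackageAsm.strMap f hV)
          (Spec.map (CommRingCat.ofHom (algebraMap Γ(S, V) (hV.primeIdealOf y).asIdeal.ResidueField)))),
        HX.BC K (F.restrict (f ⁻¹ᵁ V).ι) p θ₀ (hV.primeIdealOf y).asIdeal.ResidueField j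
          (Coh.toGlobal q)) : FibAt f F hV K p y := by
  obtain ⟨g, q, σ, hg, hσ, H, hq⟩ := exists_square_fibre f hV y
  obtain ⟨θ, h3, -⟩ := h g q H
  obtain ⟨φ⟩ := FibreResid.nonempty_fiberMod_iso f F y.1 (f ⁻¹ᵁ V) g hg
  refine ⟨σ, (HX.iso φ p).symm.trans θ, hσ, fun r x => ?_⟩
  rw [AddEquiv.trans_apply, AddEquiv.trans_apply, HX.iso_symm_smul, ← hq, h3]

end Steps

/-- **The package over affine opens.** -/
theorem exists_packV [IsProper f] [LocallyOfFinitePresentation f] (hF : CohB1.IsFP F)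
    (hfl : FlatMod.IsFlatOver f F) {V : S.Opens} (hV : IsAffineOpen V) :
    ∃ K : CxData Γ(S, V), ∀ p : ℕ, ∃ θ₀ : HV f F V p ≃+ K.H p, ComputesV f F hV K p θ₀ := by
  let iO : (f ⁻¹ᵁ V).toScheme.Over (Spec (CommRingCat.of Γ(S, V))) := ⟨PackageAsm.strMap f hV⟩
  have hpr : IsProper ((f ⁻¹ᵁ V).toScheme ↘ Spec (CommRingCat.of Γ(S, V))) :=
    inferInstanceAs (IsProper ((f ∣_ V) ≫ hV.isoSpec.hom))
  have hlfp : LocallyOfFinitePresentation ((f ⁻¹ᵁ V).toScheme ↘ Spec (CommRingCat.of Γ(S, V))) :=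
    inferInstanceAs (LocallyOfFinitePresentation ((f ∣_ V) ≫ hV.isoSpec.hom))
  have hF' : CohB1.IsFP (F.restrict (f ⁻¹ᵁ V).ι) := PerfC.FPSections.isFP_restrict _ hF
  have hfl' : FlatMod.IsFlatOver ((f ⁻¹ᵁ V).toScheme ↘ Spec (CommRingCat.of Γ(S, V)))
      (F.restrict (f ⁻¹ᵁ V).ι) := by
    refine FlatRestrict.isFlatOver_restrict f _ (f ⁻¹ᵁ V).ι hV.fromSpec ?_ F hfl
    change _ = ((f ∣_ V) ≫ hV.isoSpec.hom) ≫ hV.fromSpec
    rw [Category.assoc, IsAffineOpen.isoSpec_hom_fromSpec, morphismRestrict_ι]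
  obtain ⟨K, hK⟩ := HX.exists_pack (f ⁻¹ᵁ V).toScheme (F.restrict (f ⁻¹ᵁ V).ι) hF' hfl'
  refine ⟨K, fun p => ?_⟩
  obtain ⟨θ₀, h1, h2⟩ := hK p
  refine ⟨θ₀, ?_, fun S' X' g' f' g h W hW hWV hle => ?_, fun y => ?_⟩
  · rw [← toGlobal_strMap_eq f hV]
    exact h1
  · exact @bcW X S f F V K p θ₀ S' X' g' f' W hW hle (g.appLE V W hWV).hom.toAlgebra
      (@h2 Γ(S', W) _ (g.appLE V W hWV).hom.toAlgebra (f' ⁻¹ᵁ W).toScheme
        (g'.resLE (f ⁻¹ᵁ V) (f' ⁻¹ᵁ W) hle) (PackageAsm.strMap f' hW)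
        (isPullback_strMap f h hV hW hWV hle))
  · exact fibAt_of f F hV K p θ₀ y fun j q H => h2 _ _ j q H

end K55.PackV
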