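import Groth.Agent.Ega3A.TFunBasic
import Groth.Agent.Coherent.K55.KerAlg

/-!
# `H_p(P ⊗ B)` as the kernel of `u_B` for `u : opcycles p → P_j`

* `kap0 : T_p(A) ≃ ker u`, `kapB : T_p(B) ≃ ker u_B`; compatible with `A → B` and with the actions.
-/

set_option autoImplicit false

universe u

open CategoryTheory CategoryTheory.Limits TensorProduct

namespace K55.TKer

open Groth.Agent.Ega3A.TFunBasic K55.KerAlg

variable {A : Type u} [CommRing A] {ι : Type} {c : ComplexShape ι}
  (P : HomologicalComplex (ModuleCat.{u} A) c) (p j : ι) (hj : c.next p = j)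

/-- `u : opcycles p → P_j`. -/
noncomputable abbrev uL : P.opcycles p →ₗ[A] P.X j := (P.fromOpcycles p j).hom

/-- The image of `T_p(M)` in `M ⊗ opcycles`. -/
noncomputable def iota (M : Type u) [AddCommGroup M] [Module A M] :
    (CohIII.TFun P p).obj (ModuleCat.of A M) →ₗ[A] M ⊗[A] P.opcycles p :=
  (TensorProduct.comm A (P.opcycles p) M).toLinearMap.comp (ιTc P p (ModuleCat.of A M)).hom

theorem iota_injective (M : Type u) [AddCommGroup M] [Module A M] :
    Function.Injective (iota P p M) :=
  (TensorProduct.comm A (P.opcycles p) M).injective.comp (ιTc_injective P p (ModuleCat.of A M))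

theorem comm_rTensor (M : Type u) [AddCommGroup M] [Module A M]
    (x : TensorProduct A (P.opcycles p) M) :
    (uL P p j).lTensor M (TensorProduct.comm A (P.opcycles p) M x) =
      TensorProduct.comm A (P.X j) M ((uL P p j).rTensor M x) := by
  induction x with
  | zero => simp
  | add x y hx hy => rw [map_add, map_add, map_add, map_add, hx, hy]
  | tmul a b => rfl

include hj in
theorem range_iota (M : Type u) [AddCommGroup M] [Module A M] :
    LinearMap.range (iota P p M) = LinearMap.ker ((uL P p j).lTensor M) := by
  have h := ιTc_range P p (ModuleCat.of A M) j hj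
  ext x
  constructor
  · rintro ⟨y, rfl⟩
    have h1 : (ιTc P p (ModuleCat.of A M)).hom y ∈
        LinearMap.ker (LinearMap.rTensor M (uL P p j)) := by
      rw [← h]
      exact ⟨y, rfl⟩
    rw [LinearMap.mem_ker] at h1 ⊢
    refine (comm_rTensor P p j M _).trans ?_
    exact (congrArg (TensorProduct.comm A (P.X j) M) h1).trans (map_zero _)
  · intro hx
    have h2 : (TensorProduct.comm A (P.opcycles p) M).symm x ∈
        LinearMap.ker (LinearMap.rTensor M (uL P p j)) := by
      rw [LinearMap.mem_ker] at hx ⊢
      apply (TensorProduct.comm A (P.X j) M).injective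
      rw [map_zero, ← comm_rTensor, LinearEquiv.apply_symm_apply]
      exact hx
    obtain ⟨y, hy⟩ : (TensorProduct.comm A (P.opcycles p) M).symm x ∈
        LinearMap.range (ιTc P p (ModuleCat.of A M)).hom := by
      rw [h]
      exact h2
    refine ⟨y, ?_⟩
    change TensorProduct.comm A (P.opcycles p) M ((ιTc P p (ModuleCat.of A M)).hom y) = x
    rw [hy]
    exact LinearEquiv.apply_symm_apply _ _

theorem iota_map {M N : Type u} [AddCommGroup M] [Module A M] [AddCommGroup N] [Module A N]
    (g : M →ₗ[A] N) (x : (CohIII.TFun P p).obj (ModuleCat.of A M)) :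
    iota P p N (((CohIII.TFun P p).map (ModuleCat.ofHom g)).hom x) =
      g.rTensor (P.opcycles p) (iota P p M x) := by
  have h := ιTc_naturality_apply P p (ModuleCat.ofHom g) x
  refine (congrArg (TensorProduct.comm A (P.opcycles p) N) h).trans ?_
  change TensorProduct.comm A (P.opcycles p) N (LinearMap.lTensor (P.opcycles p) g
    ((ιTc P p (ModuleCat.of A M)).hom x)) = g.rTensor (P.opcycles p)
      (TensorProduct.comm A (P.opcycles p) M ((ιTc P p (ModuleCat.of A M)).hom x))
  generalize (ιTc P p (ModuleCat.of A M)).hom x = y
  change TensorProduct A (P.opcycles p) M at y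
  induction y with
  | zero => simp
  | add x y hx hy => rw [map_add, map_add, map_add, map_add, hx, hy]
  | tmul a b => rfl

section B

variable (B : Type u) [CommRing B] [Algebra A B]

/-- `T_p(B) ≃ ker (u_B)`. -/
noncomputable def kapB : (CohIII.TFun P p).obj (ModuleCat.of A B) ≃+
    LinearMap.ker ((uL P p j).baseChange B) :=
  AddEquiv.ofBijective
    ({ toFun := fun x => ⟨iota P p B x, by
        have : iota P p B x ∈ LinearMap.ker ((uL P p j).lTensor B) := by
          rw [← range_iota P p j hj]
          exact ⟨x, rfl⟩
        exact this⟩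
       map_zero' := Subtype.ext (map_zero _)
       map_add' := fun x y => Subtype.ext (map_add _ _ _) } :
      (CohIII.TFun P p).obj (ModuleCat.of A B) →+ LinearMap.ker ((uL P p j).baseChange B))
    ⟨fun x y h => iota_injective P p B (congrArg Subtype.val h), fun y => by
      obtain ⟨x, hx⟩ : (y : B ⊗[A] P.opcycles p) ∈ LinearMap.range (iota P p B) := by
        rw [range_iota P p j hj]
        exact y.2
      exact ⟨x, Subtype.ext hx⟩⟩

theorem kapB_coe (x : (CohIII.TFun P p).obj (ModuleCat.of A B)) :
    (kapB P p j hj B x : B ⊗[A] P.opcycles p) = iota P p B x := rfl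

/-- `B`-linearity. -/
theorem kapB_mul (b : B) (x : (CohIII.TFun P p).obj (ModuleCat.of A B)) :
    kapB P p j hj B (((CohIII.TFun P p).map (ModuleCat.ofHom (LinearMap.mulLeft A b))).hom x) =
      b • kapB P p j hj B x := by
  apply Subtype.ext
  rw [kapB_coe, iota_map]
  change (LinearMap.mulLeft A b).rTensor (P.opcycles p) (iota P p B x) = b • (iota P p B x)
  generalize iota P p B x = y
  induction y with
  | zero => simp
  | add x y hx hy => rw [map_add, smul_add, hx, hy]
  | tmul a n => rfl

/-- `T_p(A) ≃ ker u`. -/
noncomputable def kap0 : (CohIII.TFun P p).obj (ModuleCat.of A A) ≃+ LinearMap.ker (uL P p j) :=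
  (kapB P p j hj A).trans
    (((TensorProduct.lid A (P.opcycles p)).ofSubmodules (LinearMap.ker ((uL P p j).baseChange A))
      (LinearMap.ker (uL P p j)) (by
        have key : ∀ x : A ⊗[A] P.opcycles p, (uL P p j) (TensorProduct.lid A _ x) =
            TensorProduct.lid A _ ((uL P p j).baseChange A x) := by
          intro x
          induction x with
          | zero => simp
          | add x y hx hy => rw [map_add, map_add, map_add, map_add, hx, hy]
          | tmul a n => simp
        ext x
        constructor
        · rintro ⟨y, hy, rfl⟩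
          rw [LinearMap.mem_ker]
          refine (key y).trans ?_
          rw [LinearMap.mem_ker.1 hy, map_zero]
        · intro hx
          refine ⟨(TensorProduct.lid A _).symm x, ?_, LinearEquiv.apply_symm_apply _ _⟩
          apply (TensorProduct.lid A _).injective
          rw [map_zero, ← key, LinearEquiv.apply_symm_apply]
          exact hx)).toAddEquiv)

theorem kap0_coe (x : (CohIII.TFun P p).obj (ModuleCat.of A A)) :
    (kap0 P p j hj x : P.opcycles p) = TensorProduct.lid A _ (iota P p A x) := rfl

theorem kap0_mul (a : A) (x : (CohIII.TFun P p).obj (ModuleCat.of A A)) :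
    kap0 P p j hj (((CohIII.TFun P p).map (ModuleCat.ofHom (LinearMap.mulLeft A a))).hom x) =
      a • kap0 P p j hj x := by
  apply Subtype.ext
  rw [kap0_coe, iota_map]
  change TensorProduct.lid A _ ((LinearMap.mulLeft A a).rTensor (P.opcycles p) (iota P p A x)) =
    a • TensorProduct.lid A _ (iota P p A x)
  generalize iota P p A x = y
  induction y with
  | zero => simp
  | add x y hx hy => rw [map_add, map_add, map_add, smul_add, hx, hy]
  | tmul a n => simp [mul_smul]

/-- Compatibility with `A → B`. -/
theorem kapB_alg (x : (CohIII.TFun P p).obj (ModuleCat.of A A)) :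
    kapB P p j hj B (((CohIII.TFun P p).map (ModuleCat.ofHom (Algebra.linearMap A B))).hom x) =
      kres (uL P p j) B (kap0 P p j hj x) := by
  apply Subtype.ext
  rw [kapB_coe, iota_map, kres_coe, kap0_coe]
  generalize iota P p A x = y
  induction y with
  | zero => simp
  | add x y hx hy => rw [map_add, map_add, tmul_add, hx, hy]
  | tmul a n =>
    rw [LinearMap.rTensor_tmul, TensorProduct.lid_tmul, Algebra.linearMap_apply, tmul_smul,
      smul_tmul', Algebra.smul_def, mul_one]

end B

end K55.TKer
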